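import Groth.Agent.H14Count.Unip.Component
import Mathlib

/-!
# Additive functions on groups of exponent a power of the characteristic
-/

set_option autoImplicit false
set_option linter.style.haveILetI false
set_option linter.unusedVariables false
set_option linter.unusedSectionVars false

universe u

open TensorProduct
open Groth.Agent.H27PGrp (exists_pow_of_smooth smooth_aeval)

noncomputable section

namespace Groth.Agent.H14Count.Unip.FData

variable {K : Type u} [Field K] [IsAlgClosed K] {q : ℕ} {A : Type u} [CommRing A] [Algebra K A] [Algebra.Smooth K A]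
  (G : FData K q A) (p : ℕ) [hp : Fact p.Prime] [CharP K p] {r : ℕ} (hq : q = p ^ r) (hr : 0 < r)

omit [IsAlgClosed K] [Algebra.Smooth K A] in
/-- A finite group of exponent a power of `p` fixes a nonzero vector of a representation in characteristic `p`. -/
theorem exists_fixed_vector {H : Type*} [Group H] [Finite H] (hH : IsPGroup p H) {V : Type*} [AddCommGroup V]
    [Module K V] (ρ : H →* Module.End K V) {v₀ : V} (hv₀ : v₀ ≠ 0) : ∃ v ≠ 0, ∀ h, ρ h v = v := by
  classical
  letI := ZMod.algebra K p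
  letI : Module (ZMod p) V := Module.compHom V (algebraMap (ZMod p) K)
  haveI : IsScalarTower (ZMod p) K V := IsScalarTower.of_algebraMap_smul fun r v => rfl
  let W : Submodule (ZMod p) V := Submodule.span (ZMod p) (Set.range fun h => ρ h v₀)
  have hW : ∀ h, ∀ w ∈ W, ρ h w ∈ W := fun h w hw => by
    have : W ≤ W.comap ((ρ h).restrictScalars (ZMod p)) := Submodule.span_le.2 (by
      rintro _ ⟨g, rfl⟩
      exact Submodule.subset_span ⟨h * g, by simp⟩)
    exact this hw
  haveI : Module.Finite (ZMod p) W := Module.Finite.span_of_finite _ (Set.finite_range _)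
  haveI : Finite W := Module.finite_of_finite (ZMod p)
  letI : MulAction H W :=
    { smul := fun h w => ⟨ρ h w, hW h w w.2⟩
      one_smul := fun w => Subtype.ext (show ρ 1 w = w.1 by simp)
      mul_smul := fun g h w => Subtype.ext (show ρ (g * h) w = ρ g (ρ h w) by simp) }
  have hne : Nontrivial W := ⟨⟨⟨ρ 1 v₀, Submodule.subset_span ⟨1, rfl⟩⟩, 0, fun h => hv₀ (by simpa using congrArg Subtype.val h)⟩⟩
  have hdvd : p ∣ Nat.card W := by
    rw [Module.natCard_eq_pow_finrank (K := ZMod p), Nat.card_zmod]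
    exact dvd_pow_self _ Module.finrank_pos.ne'
  obtain ⟨b, hb, hb0⟩ := hH.exists_fixed_point_of_prime_dvd_card_of_fixed_point W hdvd (a := 0)
    (fun h => Subtype.ext (map_zero (ρ h)))
  exact ⟨b.1, fun h => hb0 (Subtype.ext h.symm), fun h => congrArg Subtype.val (hb h)⟩

/-- The translations on a stable subspace, modulo constants. -/
theorem exists_isAdd (hfin : ∀ S : Finset G.P, ∃ H : Subgroup G.P, Finite H ∧ ↑S ⊆ (H : Set G.P))
    (N : ℕ) (hN : ∀ x : G.P, x ^ p ^ N = 1) (a : A) (ha : a ∉ Submodule.span K ({1} : Set A)) :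
    ∃ f, G.IsAdd f ∧ f ≠ 0 := by
  classical
  let C : Submodule K A := Submodule.span K {1}
  obtain ⟨W₀, hW₀, haW⟩ := G.finiteDimensional_orbit a
  let V : Submodule K A := Submodule.span K (Set.range fun y => G.R y a) ⊔ C
  haveI : FiniteDimensional K V := by
    haveI : FiniteDimensional K C := FiniteDimensional.span_of_finite K (Set.finite_singleton _)
    refine Submodule.finiteDimensional_of_le (S₂ := W₀ ⊔ C) (sup_le_sup_right (Submodule.span_le.mpr ?_) _)
    rintro _ ⟨y, rfl⟩
    exact haW y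
  have hV : ∀ y, ∀ w ∈ V, G.R y w ∈ V := fun y => by
    have hle : V ≤ V.comap (G.R y).toLinearMap := by
      refine sup_le (Submodule.span_le.mpr ?_) (Submodule.span_le.mpr ?_)
      · rintro _ ⟨z, rfl⟩
        change G.R y (G.R z a) ∈ V
        rw [R_R]
        exact Submodule.mem_sup_left (Submodule.subset_span ⟨_, rfl⟩)
      · intro z hz
        rw [Set.mem_singleton_iff.mp hz]
        change G.R y 1 ∈ V
        rw [map_one]
        exact Submodule.mem_sup_right (Submodule.mem_span_singleton_self _)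
    exact fun w hw => hle hw
  -- fixed vectors modulo constants
  let Fx : Finset G.P → Submodule K A := fun S => V ⊓ ⨅ y ∈ S, C.comap ((G.R y).toLinearMap - 1)
  have hFx : ∀ S v, v ∈ Fx S ↔ v ∈ V ∧ ∀ y ∈ S, G.R y v - v ∈ C := fun S v => by
    simp [Fx, Submodule.mem_iInf, Module.End.one_apply]
  have hnt : ∀ S, ∃ v ∈ Fx S, v ∉ C := fun S => by
    obtain ⟨H, hHf, hSH⟩ := hfin S
    haveI := hHf
    have hHp : IsPGroup p H := fun x => ⟨N, Subtype.ext (by simpa using hN x.1)⟩
    have hCV : ∀ (y : G.P), ∀ w ∈ C, G.R y w ∈ C := fun y w hw => by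
      obtain ⟨c, rfl⟩ := Submodule.mem_span_singleton.mp hw
      rw [map_smul, map_one]
      exact Submodule.smul_mem _ _ (Submodule.mem_span_singleton_self _)
    let ρ : H →* Module.End K (A ⧸ C) :=
      { toFun := fun h => C.mapQ C (G.R h.1).toLinearMap fun w hw => hCV _ w hw
        map_one' := Submodule.linearMap_qext _ (LinearMap.ext fun v => by simp [R_one])
        map_mul' := fun g h => Submodule.linearMap_qext _ (LinearMap.ext fun v => by simp [R_R]) }
    let Q : Submodule K (A ⧸ C) := V.map C.mkQ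
    have hQ : ∀ h, ∀ v ∈ Q, ρ h v ∈ Q := by
      rintro h _ ⟨w, hw, rfl⟩
      exact ⟨_, hV h.1 w hw, rfl⟩
    let ρQ : H →* Module.End K Q :=
      { toFun := fun h => (ρ h).restrict (hQ h)
        map_one' := LinearMap.ext fun v => Subtype.ext (by simp)
        map_mul' := fun g h => LinearMap.ext fun v => Subtype.ext (by simp) }
    have ha0 : (⟨C.mkQ a, Submodule.mem_map_of_mem (Submodule.mem_sup_left (Submodule.subset_span ⟨1, G.R_one a⟩))⟩ : Q) ≠ 0 :=
      fun h => ha ((Submodule.Quotient.mk_eq_zero C).1 (congrArg Subtype.val h))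
    obtain ⟨⟨_, w, hw, rfl⟩, hv0, hfix⟩ := exists_fixed_vector p hHp ρQ ha0
    refine ⟨w, (hFx S w).2 ⟨hw, fun y hy => ?_⟩, fun h => hv0 (Subtype.ext ((Submodule.Quotient.mk_eq_zero C).2 h))⟩
    exact (Submodule.Quotient.eq C).1 (congrArg Subtype.val (hfix ⟨y, hSH hy⟩))
  obtain ⟨S₀, hS₀⟩ : ∃ S₀, ∀ S, Module.finrank K (Fx S₀) ≤ Module.finrank K (Fx S) := by
    have hne : {d | ∃ S, Module.finrank K (Fx S) = d}.Nonempty := ⟨_, ∅, rfl⟩
    obtain ⟨S₀, hS₀⟩ := Nat.sInf_mem hne
    exact ⟨S₀, fun S => hS₀ ▸ Nat.sInf_le ⟨S, rfl⟩⟩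
  obtain ⟨w, hw, hwC⟩ := hnt S₀
  have hfix : ∀ y, G.R y w - w ∈ C := fun y => by
    have hle : Fx (insert y S₀) ≤ Fx S₀ := fun v hv =>
      (hFx _ _).2 ⟨((hFx _ _).1 hv).1, fun z hz => ((hFx _ _).1 hv).2 z (Finset.mem_insert_of_mem hz)⟩
    haveI : FiniteDimensional K (Fx S₀) := Submodule.finiteDimensional_of_le (inf_le_left : Fx S₀ ≤ V)
    have heq := Submodule.eq_of_le_of_finrank_le hle (hS₀ _)
    exact ((hFx (insert y S₀) w).1 (heq ▸ hw)).2 y (Finset.mem_insert_self _ _)
  refine ⟨w - algebraMap K A (G.pt 1 w), fun x y => ?_, fun h => hwC ?_⟩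
  · obtain ⟨c, hc⟩ := Submodule.mem_span_singleton.mp (hfix y)
    have h1 := congrArg (G.pt x) hc
    have h2 := congrArg (G.pt 1) hc
    rw [map_smul, map_one, map_sub, pt_R] at h1 h2
    rw [one_mul] at h2
    simp only [map_sub, AlgHom.commutes, Algebra.algebraMap_self, RingHom.id_apply]
    linear_combination h1.symm.trans h2
  · rw [sub_eq_zero.mp h, Algebra.algebraMap_eq_smul_one]
    exact Submodule.smul_mem _ _ (Submodule.mem_span_singleton_self _)

include hq hr in
/-- An additive function spreads to a nonzero Frobenius-fixed one. -/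
theorem exists_isAdd_fixed {f : A} (hf : G.IsAdd f) (hf0 : f ≠ 0) :
    ∃ g, G.IsAdd g ∧ G.θ g = g ∧ g ≠ 0 := by
  classical
  obtain ⟨x, hx⟩ : ∃ x, G.pt x f ≠ 0 := by
    by_contra h
    push Not at h
    exact hf0 (G.ext_pt fun x => by rw [h, map_zero])
  obtain ⟨n, hn, hper⟩ := G.per f
  have hq1 : 1 < q := hq ▸ one_lt_pow₀ hp.out.one_lt hr.ne'
  have hadd : ∀ (c : K) (i : ℕ), G.IsAdd (G.θ^[i] (c • f)) := fun c i => by
    induction i with
    | zero => intro a b; simp [hf a b, mul_add]
    | succ i ih =>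
      intro a b
      obtain ⟨a, rfl⟩ := G.Φ_surjective p hq a
      obtain ⟨b, rfl⟩ := G.Φ_surjective p hq b
      rw [Function.iterate_succ_apply', ← map_mul, G.hθ, G.hθ, G.hθ, ih]
      simp only [hq]
      exact add_pow_char_pow (R := K) (p := p) (n := r) _ _
  have hsmul : ∀ (c : K) (i : ℕ), G.θ^[i] (c • f) = c ^ q ^ i • G.θ^[i] f := fun c i => by
    induction i with
    | zero => simp
    | succ i ih => rw [Function.iterate_succ_apply', Function.iterate_succ_apply', ih, θ_smul, ← pow_mul, ← pow_succ]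
  -- some element of the field of `q ^ n` elements gives a nonzero trace
  let P : Polynomial K := ∑ i ∈ Finset.range n, Polynomial.C (G.pt x (G.θ^[i] f)) * Polynomial.X ^ q ^ i
  have hP1 : P.coeff 1 = G.pt x f := by
    rw [Polynomial.finsetSum_coeff, Finset.sum_eq_single 0]
    · simp
    · intro i _ hi
      rw [Polynomial.coeff_C_mul_X_pow, if_neg]
      exact (one_lt_pow₀ hq1 hi).ne
    · intro h
      exact absurd (Finset.mem_range.2 hn) h
  have hdeg : P.natDegree < q ^ n := by
    refine lt_of_le_of_lt (Polynomial.natDegree_sum_le_of_forall_le _ _ (n := q ^ (n - 1)) fun i hi =>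
      (Polynomial.natDegree_C_mul_X_pow_le _ _).trans (Nat.pow_le_pow_right hq1.le (by have := Finset.mem_range.1 hi; omega))) ?_
    exact Nat.pow_lt_pow_right hq1 (by omega)
  obtain ⟨c, hc, hPc⟩ : ∃ c : K, c ^ q ^ n = c ∧ P.eval c ≠ 0 := by
    by_contra h
    push Not at h
    let f₀ : Polynomial K := Polynomial.X ^ q ^ n - Polynomial.X
    have hqn : 1 < q ^ n := one_lt_pow₀ hq1 hn.ne'
    have hf₀ : f₀ ≠ 0 := FiniteField.X_pow_card_sub_X_ne_zero K hqn
    have hP0 : P ≠ 0 := fun h0 => hx (by rw [← hP1, h0, Polynomial.coeff_zero])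
    have hsub : f₀.roots ≤ P.roots := by
      refine (Multiset.le_iff_subset (Polynomial.nodup_roots (galois_poly_separable p _ ?_))).2 fun v hv => ?_
      · rw [hq, ← pow_mul]
        exact dvd_pow_self _ (Nat.mul_pos hr hn).ne'
      · rw [Polynomial.mem_roots hP0]
        rw [Polynomial.mem_roots hf₀] at hv
        exact h v (by simpa [f₀, sub_eq_zero] using hv)
    have := (Multiset.card_le_card hsub).trans (Polynomial.card_roots' P)
    rw [← (IsAlgClosed.splits f₀).natDegree_eq_card_roots, FiniteField.X_pow_card_sub_X_natDegree_eq K hqn] at this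
    omega
  let g : A := ∑ i ∈ Finset.range n, G.θ^[i] (c • f)
  refine ⟨g, fun a b => ?_, ?_, fun hg => hPc ?_⟩
  · simp only [g, map_sum]
    rw [← Finset.sum_add_distrib]
    exact Finset.sum_congr rfl fun i _ => hadd c i a b
  · simp only [g, map_sum]
    have h1 := Finset.sum_range_succ' (fun i => G.θ^[i] (c • f)) n
    rw [Finset.sum_range_succ, hsmul c n, hper, hc] at h1
    simp only [Function.iterate_zero, id_eq] at h1
    refine (Finset.sum_congr rfl fun i _ => (Function.iterate_succ_apply' G.θ i (c • f)).symm).trans ?_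
    exact (add_right_cancel h1).symm
  · have := congrArg (G.pt x) hg
    simp only [g, map_sum, map_zero, hsmul, map_smul, smul_eq_mul] at this
    simp only [P, Polynomial.eval_finsetSum, Polynomial.eval_mul, Polynomial.eval_C, Polynomial.eval_pow, Polynomial.eval_X]
    exact (Finset.sum_congr rfl fun i _ => mul_comm _ _).trans this

include p in
theorem exists_derivation {f : A} (hf : G.IsAdd f) (hfp : ∀ a, f ≠ a ^ p) :
    ∃ D : Derivation K A A, D f = 1 := by
  haveI : Nontrivial A := (G.pt 1).toRingHom.domain_nontrivial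
  haveI : CharP A p := charP_of_injective_algebraMap (algebraMap K A).injective p
  have hDf : KaehlerDifferential.D K A f ≠ 0 := fun h => by
    obtain ⟨a, ha⟩ := exists_pow_of_smooth (p := p) (k := K) f h
    exact hfp a ha
  obtain ⟨l, hl⟩ : ∃ l : Module.Dual A Ω[A⁄K], l (KaehlerDifferential.D K A f) ≠ 0 := by
    by_contra hne
    push Not at hne
    exact hDf ((Module.forall_dual_apply_eq_zero_iff A _).mp hne)
  let δ : Derivation K A A := l.compDer (KaehlerDifferential.D K A)
  obtain ⟨x₀, hx₀⟩ : ∃ x₀, G.pt x₀ (δ f) ≠ 0 := by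
    by_contra hne
    push Not at hne
    exact hl (G.ext_pt fun x => by rw [map_zero]; exact hne x)
  have hex : ∀ a : A, ∃ a' : A, ∀ z, G.pt z a' = G.pt x₀ (δ (G.R (x₀⁻¹ * z) a)) := by
    intro a
    obtain ⟨n, b, c, h⟩ := G.decomp a
    obtain ⟨L, hL⟩ := G.exists_ltrans (∑ i, G.pt x₀ (δ (b i)) • c i) x₀⁻¹
    refine ⟨L, fun z => ?_⟩
    have e : G.R (x₀⁻¹ * z) a = ∑ i, G.pt (x₀⁻¹ * z) (c i) • b i :=
      G.ext_pt fun x => by simp [h, mul_comm]
    rw [e, hL]
    simp [mul_comm]
  choose D hD using hex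
  let D' : Derivation K A A := Derivation.mk'
    { toFun := D
      map_add' := fun a b => G.ext_pt fun z => by simp only [hD, map_add]
      map_smul' := fun c a => G.ext_pt fun z => by
        simp only [hD, map_smul, Derivation.map_smul, RingHom.id_apply] }
    fun a b => G.ext_pt fun z => by
      simp only [LinearMap.coe_mk, AddHom.coe_mk, smul_eq_mul, map_add, map_mul, hD, Derivation.leibniz, pt_R]
      rw [mul_inv_cancel_left]
  have hD'f : D' f = algebraMap K A (G.pt x₀ (δ f)) := G.ext_pt fun z => by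
    refine (hD f z).trans ?_
    rw [hf.R_eq, map_add δ, Derivation.map_algebraMap, add_zero, AlgHom.commutes]
    rfl
  refine ⟨(G.pt x₀ (δ f))⁻¹ • D', ?_⟩
  rw [Derivation.smul_apply, hD'f, Algebra.smul_def, ← map_mul, inv_mul_cancel₀ hx₀, map_one]

/-- an additive function with a derivation taking the value one takes every value -/
theorem exists_point_eq {f : A} (hf : G.IsAdd f) (D : Derivation K A A) (hD : D f = 1) (c : K) :
    ∃ x, G.pt x f = c := by
  classical
  letI := (Polynomial.aeval (R := K) f).toRingHom.toAlgebra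
  haveI := smooth_aeval f D hD
  haveI : Module.Flat (Polynomial K) A := Algebra.Smooth.flat _ _
  haveI : IsScalarTower K (Polynomial K) A := IsScalarTower.of_algebraMap_eq fun c => by
    change algebraMap K A c = Polynomial.aeval f (Polynomial.C c)
    rw [Polynomial.aeval_C]
  have hopen := PrimeSpectrum.isOpenMap_comap_of_hasGoingDown_of_finitePresentation
    (R := Polynomial K) (S := A)
  let P₀ : PrimeSpectrum A := ⟨RingHom.ker (G.pt 1).toRingHom, RingHom.ker_isPrime _⟩
  obtain ⟨_, ⟨q, rfl⟩, hqP, hqsub⟩ := PrimeSpectrum.isTopologicalBasis_basic_opens.exists_subset_of_mem_open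
    (Set.mem_range_self P₀ : PrimeSpectrum.comap (algebraMap (Polynomial K) A) P₀ ∈ _) hopen.isOpen_range
  have hq0 : q ≠ 0 := fun h => by
    change (PrimeSpectrum.comap (algebraMap (Polynomial K) A) P₀) ∈ PrimeSpectrum.basicOpen q at hqP
    rw [h, PrimeSpectrum.basicOpen_zero] at hqP
    exact hqP
  have key : ∀ c : K, q.eval c ≠ 0 → ∃ x, G.pt x f = c := by
    intro c hc
    let ec : Polynomial K →+* K := Polynomial.evalRingHom c
    have hmax : (RingHom.ker ec).IsMaximal :=
      RingHom.ker_isMaximal_of_surjective ec fun d => ⟨Polynomial.C d, by simp [ec]⟩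
    obtain ⟨Q, hQ⟩ := hqsub (show (⟨RingHom.ker ec, hmax.isPrime⟩ : PrimeSpectrum (Polynomial K)) ∈ (PrimeSpectrum.basicOpen q : Set _) from
      fun h => hc (by simpa [ec] using h))
    obtain ⟨m, hm, hle⟩ := Ideal.exists_le_maximal Q.asIdeal Q.isPrime.ne_top
    haveI := hm
    letI : Field (A ⧸ m) := Ideal.Quotient.field m
    haveI : Module.Finite K (A ⧸ m) := finite_of_finite_type_of_isJacobsonRing K (A ⧸ m)
    haveI : Algebra.IsIntegral K (A ⧸ m) := Algebra.IsIntegral.of_finite K _
    let e : K ≃ₐ[K] A ⧸ m := AlgEquiv.ofBijective (Algebra.ofId K (A ⧸ m))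
      (IsAlgClosed.algebraMap_bijective_of_isIntegral)
    refine ⟨G.pt.symm (e.symm.toAlgHom.comp (Ideal.Quotient.mkₐ K m)), ?_⟩
    rw [Equiv.apply_symm_apply]
    have hmem : Polynomial.X - Polynomial.C c ∈ (PrimeSpectrum.comap (algebraMap (Polynomial K) A) Q).asIdeal := by
      rw [hQ]
      simp [ec]
    have hfm : f - algebraMap K A c ∈ m := by
      refine hle ?_
      have h2 : algebraMap (Polynomial K) A (Polynomial.X - Polynomial.C c) ∈ Q.asIdeal := hmem
      rwa [show algebraMap (Polynomial K) A (Polynomial.X - Polynomial.C c) = f - algebraMap K A c by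
        change Polynomial.aeval f (Polynomial.X - Polynomial.C c) = _; simp] at h2
    change e.symm (Ideal.Quotient.mk m f) = c
    rw [Ideal.Quotient.eq.mpr hfm]
    exact e.symm_apply_eq.mpr rfl
  let bad : Finset K := q.roots.toFinset ∪ q.roots.toFinset.image (fun r => c - r)
  obtain ⟨d, hd⟩ := Infinite.exists_notMem_finset bad
  simp only [bad, Finset.mem_union, Finset.mem_image, Multiset.mem_toFinset, Polynomial.mem_roots hq0,
    Polynomial.IsRoot.def, not_or, not_exists, not_and] at hd
  obtain ⟨x, hx⟩ := key d hd.1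
  obtain ⟨y, hy⟩ := key (c - d) fun h => hd.2 (c - d) h (sub_sub_cancel c d)
  exact ⟨x * y, by rw [hf, hx, hy, add_sub_cancel]⟩

omit [IsAlgClosed K] in
theorem exists_not_pow [IsDomain A] (Good : A → Prop) (hroot : ∀ g : A, Good (g ^ p) → Good g)
    (hzero : ∀ g, Good g → G.pt 1 g = 0) {f : A} (hf : Good f) (hf0 : f ≠ 0) :
    ∃ g : A, Good g ∧ g ≠ 0 ∧ ∀ a, g ≠ a ^ p := by
  have hp2 := hp.out.two_le
  have hconn : ∀ e : A, IsIdempotentElem e → e = 0 ∨ e = 1 := fun e he => IsIdempotentElem.iff_eq_zero_or_one.mp he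
  by_contra hne
  push Not at hne
  haveI := H27PGrp.isNoetherianRing_of_smooth K A
  have hchoose : ∀ g : {g : A // Good g ∧ g ≠ 0}, ∃ h : {g : A // Good g ∧ g ≠ 0}, g.1 = h.1 ^ p := by
    rintro ⟨g, hg, hg0⟩
    obtain ⟨a, ha⟩ := hne g hg hg0
    refine ⟨⟨a, hroot a (ha ▸ hg), fun h => hg0 ?_⟩, ha⟩
    rw [ha, h, zero_pow (by omega)]
  choose nx hnx using hchoose
  let s : ℕ → {g : A // Good g ∧ g ≠ 0} := fun n => nx^[n] ⟨f, hf, hf0⟩
  have hs : ∀ n, (s n).1 = (s (n + 1)).1 ^ p := fun n => by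
    simp only [s, Function.iterate_succ_apply']
    exact hnx _
  let I : ℕ →o Ideal A := ⟨fun n => Ideal.span {(s n).1}, monotone_nat_of_le_succ fun n => by
    rw [Ideal.span_singleton_le_span_singleton, hs n]
    exact dvd_pow_self _ (by omega)⟩
  obtain ⟨n, hn⟩ := monotone_stabilizes_iff_noetherian.mpr inferInstance I
  obtain ⟨a, ha⟩ : (s n).1 ∣ (s (n + 1)).1 := Ideal.span_singleton_le_span_singleton.mp (hn (n + 1) (n.le_succ)).ge
  have hg := (s (n + 1)).2
  have hga : (s (n + 1)).1 = a * (s (n + 1)).1 ^ (p - 2) * (s (n + 1)).1 ^ 2 := by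
    rw [mul_assoc, ← pow_add, Nat.sub_add_cancel hp2]
    conv_lhs => rw [ha, hs n, mul_comm]
  generalize (s (n + 1)).1 = g at hga hg
  have hid : IsIdempotentElem (a * g ^ (p - 2) * g) := by
    change a * g ^ (p - 2) * g * (a * g ^ (p - 2) * g) = _
    calc a * g ^ (p - 2) * g * (a * g ^ (p - 2) * g) = a * g ^ (p - 2) * (a * g ^ (p - 2) * g ^ 2) := by ring
      _ = a * g ^ (p - 2) * g := by rw [← hga]
  rcases hconn _ hid with h | h
  · refine hg.2 ?_
    rw [hga, pow_two, ← mul_assoc, h, zero_mul]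
  · have h1 := congrArg (G.pt 1) h
    rw [map_mul, hzero _ hg.1, mul_zero, map_one] at h1
    exact zero_ne_one h1

end Groth.Agent.H14Count.Unip.FData
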