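import Groth.Agent.H27PGrp.Main
import Mathlib

/-!
# Smooth affine groups with a Frobenius, through functions and points

An affine group over an algebraically closed field is given by its algebra of functions and its group of points; a
Frobenius structure is a periodic semilinear endomorphism `θ` of the functions together with the corresponding
endomorphism `Φ` of the points.
-/

set_option autoImplicit false
set_option linter.style.haveILetI false
set_option linter.unusedVariables false
set_option linter.unusedSectionVars false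

universe u

open TensorProduct

noncomputable section

namespace Groth.Agent.H14Count.Unip

/-- An affine group over `K` with a Frobenius structure of degree `q`. -/
structure FData (K : Type u) [Field K] (q : ℕ) (A : Type u) [CommRing A] [Algebra K A] where
  /-- points -/
  P : Type u
  [grp : Group P]
  /-- evaluation -/
  pt : P ≃ (A →ₐ[K] K)
  decomp : ∀ a : A, ∃ (n : ℕ) (b c : Fin n → A), ∀ x y, pt (x * y) a = ∑ i, pt x (b i) * pt y (c i)
  invP : ∀ a : A, ∃ a' : A, ∀ x, pt x⁻¹ a = pt x a'
  /-- the Frobenius on points -/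
  Φ : P →* P
  /-- the Frobenius on functions -/
  θ : A →+* A
  θ_algebraMap : ∀ c : K, θ (algebraMap K A c) = algebraMap K A (c ^ q)
  hθ : ∀ x a, pt (Φ x) (θ a) = pt x a ^ q
  per : ∀ a, ∃ n, 0 < n ∧ θ^[n] a = a

attribute [instance] FData.grp

namespace FData

variable {K : Type u} [Field K] {q : ℕ} {A : Type u} [CommRing A] [Algebra K A] (G : FData K q A)

theorem θ_surjective : Function.Surjective G.θ := fun a => by
  obtain ⟨n, hn, h⟩ := G.per a
  refine ⟨G.θ^[n - 1] a, ?_⟩
  rw [← Function.iterate_succ_apply' G.θ]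
  rwa [Nat.succ_eq_add_one, Nat.sub_add_cancel hn]

theorem θ_smul (c : K) (a : A) : G.θ (c • a) = c ^ q • G.θ a := by
  rw [Algebra.smul_def, map_mul, G.θ_algebraMap, ← Algebra.smul_def]

theorem hθ_iter (n : ℕ) (x : G.P) (a : A) : G.pt (G.Φ^[n] x) (G.θ^[n] a) = G.pt x a ^ q ^ n := by
  induction n with
  | zero => simp
  | succ n ih => rw [Function.iterate_succ_apply', Function.iterate_succ_apply', G.hθ, ih, ← pow_mul, ← pow_succ]

theorem exists_trans (a : A) (y : G.P) : ∃ a' : A, ∀ x, G.pt x a' = G.pt (x * y) a := by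
  obtain ⟨n, b, c, h⟩ := G.decomp a
  exact ⟨∑ i, G.pt y (c i) • b i, fun x => by simp [h, mul_comm]⟩

theorem exists_ltrans (a : A) (y : G.P) : ∃ a' : A, ∀ x, G.pt x a' = G.pt (y * x) a := by
  obtain ⟨n, b, c, h⟩ := G.decomp a
  exact ⟨∑ i, G.pt y (b i) • c i, fun x => by simp [h]⟩

/-- additive functions -/
def IsAdd (f : A) : Prop := ∀ x y, G.pt (x * y) f = G.pt x f + G.pt y f

theorem IsAdd.zero {f : A} (hf : G.IsAdd f) : G.pt 1 f = 0 := by
  have h := hf 1 1
  rw [mul_one] at h
  exact left_eq_add.mp h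

theorem IsAdd.inv {f : A} (hf : G.IsAdd f) (x : G.P) : G.pt x⁻¹ f = -G.pt x f := by
  have h := hf x x⁻¹
  rw [mul_inv_cancel, hf.zero G] at h
  exact eq_neg_of_add_eq_zero_right h.symm

theorem exists_pt_ker_eq [IsAlgClosed K] [Algebra.FiniteType K A] (m : Ideal A) [hm : m.IsMaximal] :
    ∃ y, RingHom.ker (G.pt y) = m := by
  letI : Field (A ⧸ m) := Ideal.Quotient.field m
  haveI : Algebra.FiniteType K (A ⧸ m) :=
    Algebra.FiniteType.of_surjective (Ideal.Quotient.mkₐ K m) Ideal.Quotient.mk_surjective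
  haveI : Module.Finite K (A ⧸ m) := finite_of_finite_type_of_isJacobsonRing K _
  refine ⟨G.pt.symm ((IsAlgClosed.lift : A ⧸ m →ₐ[K] K).comp (Ideal.Quotient.mkₐ K m)), ?_⟩
  rw [Equiv.apply_symm_apply]
  ext a
  simp [RingHom.mem_ker, Ideal.Quotient.eq_zero_iff_mem]

variable [IsAlgClosed K] [Algebra.Smooth K A]

theorem ext_pt {a b : A} (h : ∀ x, G.pt x a = G.pt x b) : a = b :=
  H27PGrp.ext_algHom fun φ => by simpa using h (G.pt.symm φ)

/-- translation of functions -/
def R (y : G.P) : A →ₐ[K] A where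
  toFun a := (G.exists_trans a y).choose
  map_one' := G.ext_pt fun x => by rw [(G.exists_trans 1 y).choose_spec x, map_one, map_one]
  map_mul' a b := G.ext_pt fun x => by
    rw [(G.exists_trans _ y).choose_spec x, map_mul (G.pt x), map_mul (G.pt (x * y)), (G.exists_trans a y).choose_spec x,
      (G.exists_trans b y).choose_spec x]
  map_zero' := G.ext_pt fun x => by rw [(G.exists_trans 0 y).choose_spec x, map_zero, map_zero]
  map_add' a b := G.ext_pt fun x => by
    rw [(G.exists_trans _ y).choose_spec x, map_add (G.pt x), map_add (G.pt (x * y)), (G.exists_trans a y).choose_spec x,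
      (G.exists_trans b y).choose_spec x]
  commutes' c := G.ext_pt fun x => by
    rw [(G.exists_trans _ y).choose_spec x, AlgHom.commutes, AlgHom.commutes]

@[simp] theorem pt_R (x y : G.P) (a : A) : G.pt x (G.R y a) = G.pt (x * y) a :=
  (G.exists_trans a y).choose_spec x

theorem R_one (a : A) : G.R 1 a = a := G.ext_pt fun x => by rw [pt_R, mul_one]

theorem R_R (x y : G.P) (a : A) : G.R x (G.R y a) = G.R (x * y) a :=
  G.ext_pt fun z => by rw [pt_R, pt_R, pt_R, mul_assoc]

/-- inversion of functions -/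
def inv' : A →ₐ[K] A where
  toFun a := (G.invP a).choose
  map_one' := G.ext_pt fun x => by rw [← (G.invP 1).choose_spec x, map_one, map_one]
  map_mul' a b := G.ext_pt fun x => by
    rw [← (G.invP _).choose_spec x, map_mul, map_mul, ← (G.invP a).choose_spec x, ← (G.invP b).choose_spec x]
  map_zero' := G.ext_pt fun x => by rw [← (G.invP 0).choose_spec x, map_zero, map_zero]
  map_add' a b := G.ext_pt fun x => by
    rw [← (G.invP _).choose_spec x, map_add, map_add, ← (G.invP a).choose_spec x, ← (G.invP b).choose_spec x]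
  commutes' c := G.ext_pt fun x => by rw [← (G.invP _).choose_spec x, AlgHom.commutes, AlgHom.commutes]

@[simp] theorem pt_inv' (x : G.P) (a : A) : G.pt x (G.inv' a) = G.pt x⁻¹ a := ((G.invP a).choose_spec x).symm

theorem IsAdd.R_eq {f : A} (hf : G.IsAdd f) (y : G.P) : G.R y f = f + algebraMap K A (G.pt y f) :=
  G.ext_pt fun x => by rw [pt_R, hf, map_add, AlgHom.commutes]; rfl

theorem finiteDimensional_orbit (a : A) :
    ∃ W : Submodule K A, FiniteDimensional K W ∧ ∀ y, G.R y a ∈ W := by
  obtain ⟨n, b, c, h⟩ := G.decomp a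
  refine ⟨Submodule.span K (Set.range b), FiniteDimensional.span_of_finite K (Set.finite_range b), fun y => ?_⟩
  rw [show G.R y a = ∑ i, G.pt y (c i) • b i from G.ext_pt fun x => by simp [h, mul_comm]]
  exact Submodule.sum_mem _ fun i _ => Submodule.smul_mem _ _ (Submodule.subset_span ⟨i, rfl⟩)

section Frobenius

variable (p : ℕ) [hp : Fact p.Prime] [CharP K p] {r : ℕ} (hq : q = p ^ r) (hr : 0 < r)

omit [IsAlgClosed K] [Algebra.Smooth K A] in
include hq in
/-- The degree is a power of the characteristic: raising to the `q`th power is injective. -/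
theorem pow_q_injective {a b : K} (h : a ^ q = b ^ q) : a = b := by
  rw [hq] at h
  exact iterateFrobenius_inj K p r (by simpa [iterateFrobenius_def] using h)

include hq in
theorem θ_injective : Function.Injective G.θ := fun a b h => G.ext_pt fun x =>
  pow_q_injective p hq (by rw [← G.hθ, ← G.hθ, h])

include hq in
theorem Φ_injective : Function.Injective G.Φ := fun x y h => G.pt.injective <| AlgHom.ext fun a =>
  pow_q_injective p hq (by rw [← G.hθ, ← G.hθ, h])

include hq in
theorem Φ_surjective : Function.Surjective G.Φ := fun y => by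
  haveI : PerfectRing K p := PerfectField.toPerfectRing p
  let e : K ≃+* K := RingEquiv.ofBijective (iterateFrobenius K p r) (bijective_iterateFrobenius K p r)
  have he : ∀ v, e v = v ^ q := fun v => by rw [hq]; rfl
  let φ : A →ₐ[K] K :=
    { (e.symm.toRingHom.comp (G.pt y).toRingHom).comp G.θ with
      commutes' := fun c => e.injective (by
        change e (e.symm (G.pt y (G.θ (algebraMap K A c)))) = e (algebraMap K K c)
        rw [e.apply_symm_apply, G.θ_algebraMap, AlgHom.commutes, he]
        rfl) }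
  refine ⟨G.pt.symm φ, G.pt.injective <| AlgHom.ext fun a => ?_⟩
  obtain ⟨b, rfl⟩ := G.θ_surjective a
  rw [G.hθ, Equiv.apply_symm_apply, ← he]
  exact e.apply_symm_apply _

omit [IsAlgClosed K] [Algebra.Smooth K A] in
theorem iter_mul {a : A} {n : ℕ} (h : G.θ^[n] a = a) (m : ℕ) : G.θ^[n * m] a = a := by
  induction m with
  | zero => simp
  | succ m ih => rw [Nat.mul_succ, Function.iterate_add_apply, h, ih]

include hq hr in
/-- Points fixed by a power of the Frobenius are finite in number. -/
theorem finite_fixed {n : ℕ} (hn : 0 < n) : {x : G.P | G.Φ^[n] x = x}.Finite := by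
  classical
  obtain ⟨s, hs⟩ := (Algebra.FiniteType.out : (⊤ : Subalgebra K A).FG)
  choose d hd hd' using G.per
  have hq1 : 1 < q := hq ▸ one_lt_pow₀ hp.out.one_lt hr.ne'
  let S : A → Finset K := fun a =>
    (Polynomial.X ^ q ^ (n * d a) - Polynomial.X : Polynomial K).roots.toFinset
  have key : ∀ x, G.Φ^[n] x = x → ∀ a, G.pt x a ∈ S a := fun x hx a => by
    have h1 := G.hθ_iter (n * d a) x a
    rw [show G.Φ^[n * d a] x = x by rw [Function.iterate_mul]; exact Function.iterate_fixed hx _,
      mul_comm n (d a), G.iter_mul (hd' a) n, mul_comm (d a) n] at h1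
    have hlt : 1 < q ^ (n * d a) := one_lt_pow₀ hq1 (Nat.mul_pos hn (hd a)).ne'
    simp [S, Multiset.mem_toFinset, Polynomial.mem_roots (FiniteField.X_pow_card_sub_X_ne_zero K hlt), ← h1]
  have hfin : Finite {x : G.P | G.Φ^[n] x = x} := Finite.of_injective
    (fun x (a : s) => (⟨G.pt x.1 a.1, key x.1 x.2 a.1⟩ : S a.1)) fun x y h =>
      Subtype.ext <| G.pt.injective <| AlgHom.ext_of_adjoin_eq_top hs fun a ha =>
        congrArg Subtype.val (congrFun h ⟨a, ha⟩)
  exact Set.finite_coe_iff.1 hfin

variable (hK : ∀ v : K, ∃ n, 0 < n ∧ v ^ q ^ n = v)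

include hq hK in
/-- Over an algebraic closure of a finite field every point is periodic. -/
theorem exists_period (x : G.P) : ∃ n, 0 < n ∧ G.Φ^[n] x = x := by
  classical
  obtain ⟨s, hs⟩ := (Algebra.FiniteType.out : (⊤ : Subalgebra K A).FG)
  choose d hd hd' using G.per
  choose m hm hm' using hK
  have hmm : ∀ (v : K) (t : ℕ), v ^ q ^ (m v * t) = v := fun v t => by
    induction t with
    | zero => simp
    | succ t ih => rw [Nat.mul_succ, pow_add, pow_mul, ih, hm']
  refine ⟨∏ a ∈ s, (d a * m (G.pt x a)), Finset.prod_pos fun a _ => Nat.mul_pos (hd a) (hm _), ?_⟩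
  refine G.pt.injective <| AlgHom.ext_of_adjoin_eq_top hs fun a ha => ?_
  obtain ⟨t, ht⟩ : d a * m (G.pt x a) ∣ ∏ a ∈ s, (d a * m (G.pt x a)) := Finset.dvd_prod_of_mem _ ha
  have h1 := G.hθ_iter (∏ a ∈ s, (d a * m (G.pt x a))) x a
  rw [ht, mul_assoc, G.iter_mul (hd' a), mul_left_comm (d a), hmm] at h1
  rw [ht, mul_assoc, mul_left_comm (d a)]
  exact h1

end Frobenius

section Sub

variable {A' : Type u} [CommRing A'] [Algebra K A'] (π : A →ₐ[K] A') (hπ : Function.Surjective π)
  (S : Subgroup G.P) (hS : ∀ x, x ∈ S ↔ ∀ a, π a = 0 → G.pt x a = 0) (θ' : A' →+* A')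
  (hθ' : ∀ a, θ' (π a) = π (G.θ a))

omit [IsAlgClosed K] [Algebra.Smooth K A] in
include hS hθ' in
theorem Φ_mem {x : G.P} (hx : x ∈ S) : G.Φ x ∈ S := by
  refine (hS _).2 fun a ha => ?_
  obtain ⟨n, hn, hper⟩ := G.per a
  obtain ⟨j, rfl⟩ : ∃ j, n = j + 1 := ⟨n - 1, by omega⟩
  have hj : ∀ i, π (G.θ^[i] a) = 0 := fun i => by
    induction i with
    | zero => exact ha
    | succ i ih => rw [Function.iterate_succ_apply', ← hθ', ih, map_zero]
  have hq0 : q ≠ 0 := fun h => by
    have := G.hθ 1 0
    simp [h] at this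
  rw [← hper, Function.iterate_succ_apply', G.hθ, (hS x).1 hx _ (hj j), zero_pow hq0]

/-- The points of the subgroup cut out by the kernel of a surjection. -/
def subPt : S ≃ (A' →ₐ[K] K) := Equiv.ofBijective
    (fun x => H27PGrp.PGrp.factor π hπ (G.pt x) fun a ha => (hS x.1).mp x.2 a ha) (by
    refine ⟨fun x y h => Subtype.ext (G.pt.injective (AlgHom.ext fun a => ?_)), fun φ => ?_⟩
    · have := AlgHom.congr_fun h (π a)
      simpa [H27PGrp.PGrp.factor_apply] using this
    · refine ⟨⟨G.pt.symm (φ.comp π), (hS _).mpr fun a ha => ?_⟩, AlgHom.ext fun b => ?_⟩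
      · rw [Equiv.apply_symm_apply, AlgHom.comp_apply, ha, map_zero]
      · obtain ⟨a, rfl⟩ := hπ b
        simp [H27PGrp.PGrp.factor_apply])

omit [IsAlgClosed K] [Algebra.Smooth K A] in
theorem subPt_apply (x : S) (a : A) : G.subPt π hπ S hS x (π a) = G.pt (x : G.P) a :=
  H27PGrp.PGrp.factor_apply π hπ _ (fun a ha => (hS x.1).mp x.2 a ha) a

/-- The subgroup cut out by the kernel of an equivariant surjection. -/
def sub : FData K q A' where
  P := S
  pt := G.subPt π hπ S hS
  decomp b := by
    obtain ⟨a, rfl⟩ := hπ b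
    obtain ⟨n, b, c, h⟩ := G.decomp a
    exact ⟨n, fun i => π (b i), fun i => π (c i), fun x y => by simp only [subPt_apply, Subgroup.coe_mul, h]⟩
  invP b := by
    obtain ⟨a, rfl⟩ := hπ b
    obtain ⟨a', h⟩ := G.invP a
    exact ⟨π a', fun x => by simp only [subPt_apply, Subgroup.coe_inv, h]⟩
  Φ :=
    { toFun := fun x => ⟨G.Φ x.1, G.Φ_mem π S hS θ' hθ' x.2⟩
      map_one' := Subtype.ext (map_one G.Φ)
      map_mul' := fun x y => Subtype.ext (map_mul G.Φ _ _) }
  θ := θ'
  θ_algebraMap c := by rw [← π.commutes, hθ', G.θ_algebraMap, π.commutes]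
  hθ x b := by
    obtain ⟨a, rfl⟩ := hπ b
    rw [hθ', subPt_apply, subPt_apply]
    exact G.hθ _ _
  per b := by
    obtain ⟨a, rfl⟩ := hπ b
    obtain ⟨n, hn, h⟩ := G.per a
    refine ⟨n, hn, ?_⟩
    have : ∀ i, θ'^[i] (π a) = π (G.θ^[i] a) := fun i => by
      induction i with
      | zero => rfl
      | succ i ih => rw [Function.iterate_succ_apply', Function.iterate_succ_apply', ih, hθ']
    rw [this, h]

@[simp] theorem sub_pt (x : S) (a : A) : (G.sub π hπ S hS θ' hθ').pt x (π a) = G.pt (x : G.P) a :=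
  G.subPt_apply π hπ S hS x a

end Sub

end FData

end Groth.Agent.H14Count.Unip
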