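import Groth.Agent.H14Count.Unip.Scheme
import Groth.Agent.H19Chev.IdComp

/-!
# Frobenius structures on closed subgroups
-/

set_option autoImplicit false
set_option maxHeartbeats 800000
set_option linter.unusedVariables false
set_option linter.unusedSectionVars false
set_option linter.style.haveILetI false
set_option backward.isDefEq.respectTransparency false
set_option backward.isDefEq.respectTransparency.types false

universe u

open CategoryTheory CategoryTheory.Limits MonoidalCategory CartesianMonoidalCategory MonObj GrpObj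
open AlgebraicGeometry Groth.Agent.H27Witt
open scoped CategoryTheory.Obj

noncomputable section

namespace Groth.Agent.H14Count.Unip

attribute [local instance 2000] Hom.group Hom.monoid

variable {K : Type u} [Field K] (q : ℕ)

/-- An endomorphism of the points of an affine group coming from a Frobenius structure of degree `q` on functions. -/
def IsFrob (Y : Over (Spec (CommRingCat.of K))) [GrpObj Y] (Φ : (T0 K ⟶ Y) → (T0 K ⟶ Y)) : Prop :=
  ∃ (G : FData K q (Fn Y)) (ip : G.P ≃* (T0 K ⟶ Y)),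
    (∀ x f, G.pt x f = Fn.ev (ip x) f) ∧ ∀ x, ip (G.Φ x) = Φ (ip x)

variable {q} [IsAlgClosed K] {X Y : Over (Spec (CommRingCat.of K))} [GrpObj X] [GrpObj Y] [IsAffine X.left]
  [IsAffine Y.left] [Smooth X.hom] [Smooth Y.hom] {Φ : (T0 K ⟶ Y) → (T0 K ⟶ Y)}

/-- A closed subgroup on whose points the Frobenius restricts to a surjection inherits a Frobenius structure. -/
theorem IsFrob.sub (hq : 0 < q) (i : X ⟶ Y) [IsMonHom i] [IsClosedImmersion i.left] (hF : IsFrob q Y Φ)
    {Φ' : (T0 K ⟶ X) → (T0 K ⟶ X)} (h : ∀ z, Φ' z ≫ i = Φ (z ≫ i)) (hs : Function.Surjective Φ') :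
    IsFrob q X Φ' := by
  obtain ⟨G, ip, hpt, hΦ⟩ := hF
  haveI : Algebra.Smooth K (Fn Y) := Fn.smooth Y
  haveI : Algebra.Smooth K (Fn X) := Fn.smooth X
  haveI : Mono i := Over.mono_of_mono_left _
  let π : Fn Y →ₐ[K] Fn X := Fn.pull i
  have hπ : Function.Surjective π := i.left.app_surjective ⊤ (isAffineOpen_top Y.left)
  let f : (T0 K ⟶ X) →* G.P := ip.symm.toMonoidHom.comp (MonoidHom.mk' (fun z => z ≫ i) fun z w => MonObj.mul_comp z w i)
  have hf : ∀ z, ip (f z) = z ≫ i := fun z => ip.apply_symm_apply _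
  have hfi : Function.Injective f := fun z w e => (cancel_mono i).1 (by rw [← hf, ← hf, e])
  let S : Subgroup G.P := f.range
  have hS : ∀ x, x ∈ S ↔ ∀ a, π a = 0 → G.pt x a = 0 := fun x => by
    constructor
    · rintro ⟨z, rfl⟩ a ha
      rw [hpt, hf, ← Fn.ev_pull]
      change Fn.ev z (π a) = 0
      rw [ha, map_zero]
    · intro hx
      obtain ⟨z, hz⟩ := Fn.exists_point (H27PGrp.PGrp.factor π hπ (G.pt x) hx)
      refine ⟨z, ip.injective (Fn.point_ext (AlgHom.ext fun a => ?_))⟩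
      rw [hf, ← hpt, ← Fn.ev_pull]
      change Fn.ev z (π a) = _
      rw [hz]
      exact H27PGrp.PGrp.factor_apply π hπ _ hx a
  have hker : ∀ a, π a = 0 → π (G.θ a) = 0 := fun a ha => Fn.ext_points fun z => by
    obtain ⟨y, rfl⟩ := hs z
    rw [map_zero]
    change Fn.ev (Φ' y) (Fn.pull i (G.θ a)) = 0
    rw [Fn.ev_pull, h, ← hf y, ← hΦ, ← hpt, G.hθ, hpt, hf, ← Fn.ev_pull]
    change Fn.ev y (π a) ^ q = 0
    rw [ha, map_zero, zero_pow hq.ne']
  let θ' : Fn X →+* Fn X := π.toRingHom.liftOfSurjective hπ ⟨π.toRingHom.comp G.θ, fun a ha => hker a ha⟩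
  have hθ' : ∀ a, θ' (π a) = π (G.θ a) := fun a =>
    RingHom.liftOfSurjective_comp_apply π.toRingHom hπ ⟨π.toRingHom.comp G.θ, fun a ha => hker a ha⟩ a
  let G' := G.sub π hπ S hS θ' hθ'
  refine ⟨G', (MonoidHom.ofInjective hfi).symm, fun x b => ?_, fun x => ?_⟩
  · obtain ⟨a, rfl⟩ := hπ b
    change (G.sub π hπ S hS θ' hθ').pt x (π a) = _
    rw [G.sub_pt, hpt]
    change _ = Fn.ev ((MonoidHom.ofInjective hfi).symm x) (Fn.pull i a)
    rw [Fn.ev_pull]
    refine congrArg (fun w => Fn.ev w a) ?_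
    rw [← hf]
    exact congrArg ip (congrArg Subtype.val ((MonoidHom.ofInjective hfi).apply_symm_apply x)).symm
  · apply (MonoidHom.ofInjective hfi).injective
    refine ((MonoidHom.ofInjective hfi).apply_symm_apply (G'.Φ x)).trans ?_
    refine Subtype.ext (ip.injective ?_)
    change ip (G.Φ x.1) = ip (f (Φ' _))
    rw [hf, h, ← hf, hΦ]
    exact congrArg (fun w => Φ (ip w)) (congrArg Subtype.val ((MonoidHom.ofInjective hfi).apply_symm_apply x)).symm

/-- A minimal idempotent at the neutral point takes the same values at a point and at its image. -/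
theorem IsFrob.ev_idempotent (hq : 0 < q) (hF : IsFrob q Y Φ) {e : Fn Y} (he : IsIdempotentElem e)
    (he0 : Fn.ev 1 e = 1) (hmin : ∀ e', IsIdempotentElem e' → Fn.ev 1 e' = 1 → e * e' = e) (x : T0 K ⟶ Y) :
    Fn.ev (Φ x) e = Fn.ev x e := by
  obtain ⟨G, ip, hpt, hΦ⟩ := hF
  haveI : Algebra.Smooth K (Fn Y) := Fn.smooth Y
  have h1 : ∀ e', G.pt 1 e' = Fn.ev 1 e' := fun e' => by rw [hpt, map_one]
  have hθ : G.θ e = e := G.θ_eq_self he (by rw [h1]; exact he0) fun e' he' h' => hmin e' he' (by rw [← h1]; exact h')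
  obtain ⟨x, rfl⟩ := ip.surjective x
  rw [← hΦ, ← hpt, ← hpt]
  conv_lhs => rw [← hθ]
  rw [G.hθ]
  rcases IsIdempotentElem.iff_eq_zero_or_one.1 (he.map (G.pt x)) with h | h <;> rw [h]
  · exact zero_pow hq.ne'
  · exact one_pow q

variable (p : ℕ) [Fact p.Prime] [CharP K p] {r : ℕ}

/-- The theorem of Lang for a Frobenius structure on a connected group. -/
theorem IsFrob.exists_lang (hq : q = p ^ r) (hr : 0 < r) [ConnectedSpace Y.left] (hF : IsFrob q Y Φ) (a : T0 K ⟶ Y) :
    ∃ y, y * (Φ y)⁻¹ = a := by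
  obtain ⟨G, ip, hpt, hΦ⟩ := hF
  haveI : Algebra.Smooth K (Fn Y) := Fn.smooth Y
  haveI : IsDomain (Fn Y) := Fn.isDomain Y
  obtain ⟨y, hy⟩ := G.exists_lang p hq hr (ip.symm a)
  refine ⟨ip y, ?_⟩
  rw [← hΦ, ← map_inv, ← map_mul, hy, MulEquiv.apply_symm_apply]

/-- The fixed points of a Frobenius structure on a connected group without subtorus. -/
theorem IsFrob.card_fixed (hq : q = p ^ r) (hr : 0 < r) (hK : ∀ v : K, ∃ n, 0 < n ∧ v ^ q ^ n = v)
    [ConnectedSpace Y.left] (hU : Red.HasNoSubtorus K Y) (d : ℕ) (hd : topologicalKrullDim ↥Y.left = (d : WithBot ℕ∞))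
    (hF : IsFrob q Y Φ) : Nat.card {y : T0 K ⟶ Y // Φ y = y} = q ^ d := by
  obtain ⟨G, ip, hpt, hΦ⟩ := hF
  haveI : Algebra.Smooth K (Fn Y) := Fn.smooth Y
  haveI : IsDomain (Fn Y) := Fn.isDomain Y
  obtain ⟨N, hN⟩ := exists_exponent Y hU p
  have hN' : ∀ x : G.P, x ^ p ^ N = 1 := fun x => ip.injective (by rw [map_pow, map_one]; exact hN _)
  have hdim : ringKrullDim (Fn Y) = d := by
    rw [← hd, ← PrimeSpectrum.topologicalKrullDim_eq_ringKrullDim]
    exact ((Scheme.Hom.homeomorph Y.left.isoSpec.hom).isHomeomorph.topologicalKrullDim_eq).symm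
  rw [← G.card_fixed d p hq hr hK N hN' hdim]
  refine (Nat.card_congr (ip.toEquiv.subtypeEquiv fun x => ?_)).symm
  change G.Φ x = x ↔ Φ (ip x) = ip x
  rw [← hΦ, ip.injective.eq_iff]

omit [IsAlgClosed K] [Smooth X.hom] [IsAffine X.left] [GrpObj X] [GrpObj Y] [Smooth Y.hom] in
/-- A clopen subset of an affine scheme is cut out by an idempotent function. -/
theorem exists_idempotent_of_isClopen {W : Set Y.left} (hW : IsClopen W) :
    ∃ e : Fn Y, IsIdempotentElem e ∧ ∀ x : T0 K ⟶ Y, x.left (IsLocalRing.closedPoint K) ∈ W ↔ Fn.ev x e ≠ 0 := by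
  obtain ⟨e, he, heq⟩ := PrimeSpectrum.isClopen_iff.1 (hW.preimage (Scheme.Hom.continuous Y.left.isoSpec.inv))
  refine ⟨e, he, fun x => ?_⟩
  have h0 : Y.left.isoSpec.inv (Y.left.isoSpec.hom (x.left (IsLocalRing.closedPoint K))) =
      x.left (IsLocalRing.closedPoint K) := by
    rw [← Scheme.Hom.comp_apply, Iso.hom_inv_id]; rfl
  have h1 : x.left (IsLocalRing.closedPoint K) ∈ W ↔
      Y.left.isoSpec.hom (x.left (IsLocalRing.closedPoint K)) ∈ PrimeSpectrum.basicOpen e := by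
    conv_lhs => rw [← h0]
    exact Set.ext_iff.1 heq _
  have h2 : Y.left.isoSpec.hom (x.left (IsLocalRing.closedPoint K)) ∈ PrimeSpectrum.basicOpen e ↔
      x.left (IsLocalRing.closedPoint K) ∈ Y.left.basicOpen e := by
    rw [← Scheme.toSpecΓ_preimage_basicOpen]
    rfl
  rw [h1, h2]
  change IsLocalRing.closedPoint K ∈ x.left ⁻¹ᵁ Y.left.basicOpen e ↔ _
  rw [Scheme.preimage_basicOpen_top]
  change _ ↔ Fn.gammaAlg (Fn.pull x e) ≠ 0
  change IsLocalRing.closedPoint K ∈ (Spec (CommRingCat.of K)).basicOpen (x.left.appTop.hom e) ↔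
    (Scheme.ΓSpecIso (CommRingCat.of K)).hom.hom (x.left.appTop.hom e) ≠ 0
  rw [basicOpen_eq_of_affine', PrimeSpectrum.mem_basicOpen]
  rw [show (IsLocalRing.closedPoint K).asIdeal = ⊥ from IsLocalRing.maximalIdeal_eq_bot, Ideal.mem_bot]

end Groth.Agent.H14Count.Unip
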