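import Groth.Agent.H14Count.Unip.Basic
import Mathlib

/-!
# The component of the neutral element
-/

set_option autoImplicit false
set_option linter.style.haveILetI false
set_option linter.unusedVariables false
set_option linter.unusedSectionVars false

universe u

noncomputable section

namespace Groth.Agent.H14Count.Unip.FData

variable {K : Type u} [Field K] [IsAlgClosed K] {q : ℕ} {A : Type u} [CommRing A] [Algebra K A] [Algebra.Smooth K A]
  (G : FData K q A)

include G in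
/-- no nontrivial idempotents gives a domain -/
theorem isDomain_of_idempotents (hconn : ∀ e : A, IsIdempotentElem e → e = 0 ∨ e = 1) : IsDomain A := by
  classical
  haveI := H27PGrp.isNoetherianRing_of_smooth K A
  haveI := H27PGrp.isReduced_of_smooth K A
  let M : Finset (Ideal A) := (minimalPrimes.finite_of_isNoetherianRing A).toFinset
  have hM : ∀ P, P ∈ M ↔ P ∈ minimalPrimes A := fun P => Set.Finite.mem_toFinset _
  have hprime : ∀ P ∈ M, P.IsPrime := fun P hP => ((hM P).mp hP).1.1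
  have hbelow : ∀ y, ∃ P ∈ M, P ≤ RingHom.ker (G.pt y) := fun y => by
    haveI : (RingHom.ker (G.pt y)).IsPrime := RingHom.ker_isPrime (G.pt y).toRingHom
    obtain ⟨P, hP, hle⟩ := Ideal.exists_minimalPrimes_le (I := (⊥ : Ideal A)) (J := RingHom.ker (G.pt y)) bot_le
    exact ⟨P, (hM P).mpr hP, hle⟩
  have hinf : ∀ a : A, (∀ P ∈ M, a ∈ P) → a = 0 := fun a ha => by
    have h : a ∈ sInf ((⊥ : Ideal A).minimalPrimes) := Ideal.mem_sInf.mpr fun {P} hP => ha P ((hM P).mpr hP)
    rw [Ideal.sInf_minimalPrimes] at h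
    obtain ⟨n, hn⟩ := h
    exact IsReduced.eq_zero a ⟨n, hn⟩
  haveI : Nontrivial A := (G.pt 1).toRingHom.domain_nontrivial
  obtain ⟨P₁, hP₁, -⟩ := hbelow 1
  -- a point on a single component
  obtain ⟨x₁, hx₁⟩ : ∃ x, ∀ P ∈ M, P ≤ RingHom.ker (G.pt x) → P = P₁ := by
    obtain ⟨s, hs, hs1⟩ : ∃ s, (∀ P ∈ M.erase P₁, s ∈ P) ∧ s ∉ P₁ := by
      by_contra h
      push Not at h
      have hle : (M.erase P₁).inf id ≤ P₁ := fun s hs => h s fun P hP => (Submodule.mem_finsetInf.mp hs) P hP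
      obtain ⟨P, hP, hPle⟩ := ((hprime P₁ hP₁).inf_le').mp hle
      obtain ⟨hne, hPM⟩ := Finset.mem_erase.mp hP
      exact hne (le_antisymm hPle (((hM P₁).mp hP₁).2 ((hM P).mp hPM).1 hPle))
    obtain ⟨x, hx⟩ : ∃ x, G.pt x s ≠ 0 := by
      by_contra h
      push Not at h
      exact hs1 ((G.ext_pt fun x => (h x).trans (map_zero _).symm : s = 0) ▸ P₁.zero_mem)
    exact ⟨x, fun P hP hle => by_contra fun hne => hx (hle (hs P (Finset.mem_erase.mpr ⟨hne, hP⟩)))⟩
  -- so every point is on a single component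
  have hmove : ∀ (z : G.P) (P : Ideal A), P ∈ M → P.comap (G.R z) ∈ M := by
    intro z P hP
    haveI := hprime P hP
    obtain ⟨Q, hQ, hQle⟩ := Ideal.exists_minimalPrimes_le (I := (⊥ : Ideal A)) (J := P.comap (G.R z)) bot_le
    haveI := hQ.1.1
    have h1 : Q.comap (G.R z⁻¹) ≤ P := fun a ha => by
      have h2 : G.R z (G.R z⁻¹ a) ∈ P := hQle ha
      rwa [G.R_R, mul_inv_cancel, G.R_one] at h2
    have h2 : P ≤ Q.comap (G.R z⁻¹) := ((hM P).mp hP).2 ⟨inferInstance, bot_le⟩ h1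
    have h3 : Q = P.comap (G.R z) := le_antisymm hQle fun a ha => by
      have h4 : G.R z⁻¹ (G.R z a) ∈ Q := h2 ha
      rwa [G.R_R, inv_mul_cancel, G.R_one] at h4
    exact (hM _).mpr (h3 ▸ hQ)
  have huniq : ∀ y, ∀ P ∈ M, ∀ Q ∈ M, P ≤ RingHom.ker (G.pt y) → Q ≤ RingHom.ker (G.pt y) → P = Q := by
    intro y P hP Q hQ hPy hQy
    have key : ∀ P ∈ M, P ≤ RingHom.ker (G.pt y) → P.comap (G.R (y⁻¹ * x₁)) = P₁ := fun P hP hle =>
      hx₁ _ (hmove _ P hP) fun a ha => by
        have h : G.pt y (G.R (y⁻¹ * x₁) a) = 0 := hle ha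
        rwa [G.pt_R, mul_inv_cancel_left] at h
    ext a
    have hsame : P.comap (G.R (y⁻¹ * x₁)) = Q.comap (G.R (y⁻¹ * x₁)) := (key P hP hPy).trans (key Q hQ hQy).symm
    have ha : a = G.R (y⁻¹ * x₁) (G.R (x₁⁻¹ * y) a) := by rw [G.R_R, mul_assoc, mul_inv_cancel_left, inv_mul_cancel, G.R_one]
    have h1 : G.R (x₁⁻¹ * y) a ∈ P.comap (G.R (y⁻¹ * x₁)) ↔ G.R (x₁⁻¹ * y) a ∈ Q.comap (G.R (y⁻¹ * x₁)) := by rw [hsame]
    rw [Ideal.mem_comap, Ideal.mem_comap, ← ha] at h1
    exact h1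
  -- the components are coprime, hence there is only one
  have hcop : P₁ ⊔ (M.erase P₁).inf id = ⊤ := by
    by_contra h
    obtain ⟨m, hm, hle⟩ := Ideal.exists_le_maximal _ h
    haveI := hm
    obtain ⟨y, hy⟩ := G.exists_pt_ker_eq m
    obtain ⟨P, hP, hPle⟩ := (hm.isPrime.inf_le').mp (le_sup_right.trans hle)
    obtain ⟨hne, hPM⟩ := Finset.mem_erase.mp hP
    exact hne (huniq y P hPM P₁ hP₁ (by rw [hy]; exact hPle) (by rw [hy]; exact le_sup_left.trans hle))
  obtain ⟨a, ha, b, hb, hab⟩ := Submodule.mem_sup.mp (hcop ▸ Submodule.mem_top : (1 : A) ∈ P₁ ⊔ (M.erase P₁).inf id)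
  have hzero : a * b = 0 := hinf _ fun P hP => by
    by_cases h : P = P₁
    · subst h; exact P.mul_mem_right b ha
    · exact P.mul_mem_left a ((Submodule.mem_finsetInf.mp hb) P (Finset.mem_erase.mpr ⟨h, hP⟩))
  have hid : IsIdempotentElem b := by
    have : (a + b) * b = b := by rw [hab, one_mul]
    rwa [add_mul, hzero, zero_add] at this
  have hb0 : b ∉ P₁ := fun h => (hprime P₁ hP₁).ne_top ((Ideal.eq_top_iff_one _).mpr (hab ▸ P₁.add_mem ha h))
  have hb1 : b = 1 := (hconn b hid).resolve_left fun h => hb0 (h ▸ P₁.zero_mem)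
  have hbot : P₁ = ⊥ := by
    refine eq_bot_iff.mpr fun c hc => (Submodule.mem_bot _).mpr (hinf c fun P hP => ?_)
    by_cases h : P = P₁
    · exact h ▸ hc
    · exact absurd ((Ideal.eq_top_iff_one _).mpr (hb1 ▸ (Submodule.mem_finsetInf.mp hb) P (Finset.mem_erase.mpr ⟨h, hP⟩)))
        (hprime P hP).ne_top
  haveI : (⊥ : Ideal A).IsPrime := hbot ▸ hprime P₁ hP₁
  exact IsDomain.of_bot_isPrime A

theorem exists_minimal_idempotent :
    ∃ e : A, IsIdempotentElem e ∧ G.pt 1 e = 1 ∧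
      ∀ e' : A, IsIdempotentElem e' → G.pt 1 e' = 1 → e * e' = e := by
  haveI := H27PGrp.isNoetherianRing_of_smooth K A
  obtain ⟨J, ⟨e, he, he0, rfl⟩, hmax⟩ := set_has_maximal_iff_noetherian.mpr inferInstance
    {J : Ideal A | ∃ e, IsIdempotentElem e ∧ G.pt 1 e = 1 ∧ J = Ideal.span {1 - e}}
    ⟨_, 1, IsIdempotentElem.one, map_one _, rfl⟩
  refine ⟨e, he, he0, fun e' he' he'0 => ?_⟩
  have hid : IsIdempotentElem (e * e') := he.mul he'
  have hle : Ideal.span {1 - e} ≤ Ideal.span {1 - e * e'} := Ideal.span_singleton_le_span_singleton.mpr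
    ⟨1 - e, by linear_combination (-e') * he.eq⟩
  have heq := eq_of_le_of_not_lt hle (hmax _ ⟨e * e', hid, by rw [map_mul, he0, he'0, mul_one], rfl⟩)
  obtain ⟨c, hc⟩ := Ideal.mem_span_singleton'.mp (heq.symm ▸ Ideal.mem_span_singleton_self (1 - e * e'))
  linear_combination (c - e') * he.eq + e * hc

/-- A minimal idempotent at the neutral element is fixed by the Frobenius. -/
theorem θ_eq_self {e : A} (he : IsIdempotentElem e) (he0 : G.pt 1 e = 1)
    (hmin : ∀ e' : A, IsIdempotentElem e' → G.pt 1 e' = 1 → e * e' = e) : G.θ e = e := by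
  obtain ⟨n, hn, hper⟩ := G.per e
  obtain ⟨j, rfl⟩ : ∃ j, n = j + 1 := ⟨n - 1, by omega⟩
  have hi : ∀ i, IsIdempotentElem (G.θ^[i] e) ∧ G.pt 1 (G.θ^[i] e) = 1 := fun i => by
    induction i with
    | zero => exact ⟨he, he0⟩
    | succ i ih =>
      rw [Function.iterate_succ_apply']
      exact ⟨ih.1.map G.θ, by conv_lhs => rw [← map_one G.Φ]
                              rw [G.hθ, ih.2, one_pow]⟩
  have h1 := congrArg G.θ (hmin _ (hi j).1 (hi j).2)
  rw [map_mul, ← Function.iterate_succ_apply' G.θ, hper, mul_comm] at h1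
  rw [← h1]
  exact hmin _ (hi 1).1 (hi 1).2

/-- The points of the component of the neutral element. -/
def compSub {e : A} (he : IsIdempotentElem e) (he0 : G.pt 1 e = 1)
    (hmin : ∀ e' : A, IsIdempotentElem e' → G.pt 1 e' = 1 → e * e' = e) : Subgroup G.P where
  carrier := {x | G.pt x e = 1}
  one_mem' := he0
  mul_mem' {x y} hx hy := by
    have h := congrArg (G.pt x) (hmin (G.R y e) (he.map (G.R y)) (by rw [pt_R, one_mul]; exact hy))
    rw [map_mul, show G.pt x e = 1 from hx, one_mul, pt_R] at h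
    exact h
  inv_mem' {x} hx := by
    have h := congrArg (G.pt x) (hmin (G.inv' e) (he.map G.inv') (by rw [pt_inv', inv_one, he0]))
    rw [map_mul, show G.pt x e = 1 from hx, one_mul, pt_inv'] at h
    exact h

end Groth.Agent.H14Count.Unip.FData
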