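import Groth.Agent.H14Count.Unip.Basic
import Groth.Agent.H8Props.FieldDimRing
import Mathlib

/-!
# Lang's theorem through functions

For a connected group with a Frobenius structure every point is `y * (Φ y)⁻¹`: the endomorphism `x ↦ x * a * (Φ x)⁻¹`
has vanishing relative differentials, hence is dominant, and two dominant endomorphisms have a common value.
-/

set_option autoImplicit false
set_option linter.style.haveILetI false
set_option linter.unusedVariables false
set_option linter.unusedSectionVars false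

universe u

noncomputable section

namespace Groth.Agent.H14Count.Unip

/-- The functions pulled back along an endomorphism with vanishing differential generate an extension over which the
algebra is algebraic; in particular such an endomorphism is dominant. -/
theorem injective_and_isAlgebraic_of_kaehler {K : Type u} [Field K] {A : Type u} [CommRing A] [IsDomain A] [Algebra K A]
    [Algebra.FiniteType K A] (ψ : A →ₐ[K] A)
    (h : ∀ (M : Type u) [AddCommGroup M] [Module A M] [Module K M] [IsScalarTower K A M] (D : Derivation K A M),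
      (∀ a, D (ψ a) = 0) → D = 0) :
    Function.Injective ψ ∧ ∀ b : A, IsAlgebraic ψ.range b := by
  let R₁ : Subalgebra K A := ψ.range
  haveI : Algebra.FiniteType K R₁ :=
    Algebra.FiniteType.of_surjective ψ.rangeRestrict ψ.rangeRestrict_surjective
  haveI : Algebra.FiniteType R₁ A := Algebra.FiniteType.of_restrictScalars_finiteType K R₁ A
  haveI hun : Algebra.FormallyUnramified R₁ A := by
    rw [Algebra.formallyUnramified_iff]
    refine ⟨fun u v => ?_⟩
    suffices hz : ∀ w : Ω[A⁄R₁], w = 0 by rw [hz u, hz v]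
    intro w
    let D : Derivation K A Ω[A⁄R₁] := (KaehlerDifferential.D R₁ A).restrictScalars K
    have hD : D = 0 := h _ D fun a => (KaehlerDifferential.D R₁ A).map_algebraMap ⟨ψ a, a, rfl⟩
    have hw : w ∈ Submodule.span A (Set.range (KaehlerDifferential.D R₁ A)) := by
      rw [KaehlerDifferential.span_range_derivation]; exact Submodule.mem_top
    induction hw using Submodule.span_induction with
    | mem z hz =>
      obtain ⟨a, rfl⟩ := hz
      exact Derivation.congr_fun hD a
    | zero => rfl
    | add z z' _ _ hz hz' => rw [hz, hz', add_zero]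
    | smul c z _ hz => rw [hz, smul_zero]
  let L := FractionRing R₁
  let K' := FractionRing A
  haveI : FaithfulSMul R₁ A := (faithfulSMul_iff_algebraMap_injective _ _).mpr Subtype.val_injective
  letI : Algebra L K' := FractionRing.liftAlgebra R₁ K'
  haveI : IsScalarTower R₁ L K' := FractionRing.isScalarTower_liftAlgebra R₁ K'
  haveI : Algebra.FormallyUnramified A K' := Algebra.FormallyUnramified.of_isLocalization (nonZeroDivisors A)
  haveI : Algebra.FormallyUnramified R₁ K' := Algebra.FormallyUnramified.comp R₁ A K'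
  haveI : Algebra.FormallyUnramified L K' := Algebra.FormallyUnramified.of_restrictScalars R₁ L K'
  haveI : Algebra.EssFiniteType A K' := Algebra.EssFiniteType.of_isLocalization K' (nonZeroDivisors A)
  haveI : Algebra.EssFiniteType R₁ K' := Algebra.EssFiniteType.comp R₁ A K'
  haveI : Algebra.EssFiniteType L K' := Algebra.EssFiniteType.of_comp R₁ L K'
  haveI : Algebra.IsSeparable L K' := Algebra.FormallyUnramified.isSeparable L K'
  haveI : Algebra.IsAlgebraic R₁ K' := (IsFractionRing.comap_isAlgebraic_iff (A := R₁) (K := L) (C := K')).2 inferInstance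
  haveI halg : Algebra.IsAlgebraic R₁ A :=
    Algebra.IsAlgebraic.of_injective (IsScalarTower.toAlgHom R₁ A K') (IsFractionRing.injective A K')
  refine ⟨?_, fun b => Algebra.IsAlgebraic.isAlgebraic b⟩
  have hdim : ringKrullDim R₁ = ringKrullDim A :=
    H8Props.FieldDim.dim_eq_of_algebraic (k := K) R₁ A Subtype.val_injective
  let p₀ : Ideal A := RingHom.ker ψ.toRingHom
  haveI : p₀.IsPrime := RingHom.ker_isPrime _
  rw [RingHom.injective_iff_ker_eq_bot]
  by_contra hne
  have hlt := H8Props.FieldDim.dim_quotient_lt K A ⊥ p₀ (bot_lt_iff_ne_bot.2 hne)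
  have e1 : ringKrullDim (A ⧸ p₀) = ringKrullDim R₁ :=
    ringKrullDim_eq_of_ringEquiv (RingEquiv.ofBijective
      (Ideal.Quotient.lift p₀ ψ.rangeRestrict.toRingHom fun a ha => Subtype.ext ha) ⟨
      (RingHom.injective_iff_ker_eq_bot _).2 (by
        rw [eq_bot_iff]
        intro x hx
        obtain ⟨a, rfl⟩ := Ideal.Quotient.mk_surjective x
        rw [RingHom.mem_ker, Ideal.Quotient.lift_mk] at hx
        exact (Submodule.mem_bot _).2 (Ideal.Quotient.eq_zero_iff_mem.2 (congrArg Subtype.val hx))),
      fun y => by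
        obtain ⟨a, ha⟩ := ψ.rangeRestrict_surjective y
        exact ⟨Ideal.Quotient.mk p₀ a, ha⟩⟩)
  rw [e1, hdim, ringKrullDim_eq_of_ringEquiv (RingEquiv.quotientBot A)] at hlt
  exact lt_irrefl _ hlt

/-- Extending an injective map into an algebraically closed field along an algebraic extension of domains. -/
theorem exists_lift_of_algebraic {R S Ω : Type u} [CommRing R] [IsDomain R] [CommRing S] [IsDomain S] [Algebra R S] [FaithfulSMul R S]
    [Algebra.IsAlgebraic R S] [Field Ω] [IsAlgClosed Ω] (m : R →+* Ω) (hm : Function.Injective m) :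
    ∃ l : S →+* Ω, ∀ r, l (algebraMap R S r) = m r := by
  letI : Algebra R Ω := m.toAlgebra
  haveI : FaithfulSMul R Ω := (faithfulSMul_iff_algebraMap_injective _ _).mpr hm
  exact ⟨(IsAlgClosed.lift : S →ₐ[R] Ω).toRingHom, fun r => (IsAlgClosed.lift : S →ₐ[R] Ω).commutes r⟩

/-- Two dominant endomorphisms of an affine variety have a common value at points. -/
theorem exists_common_value {K : Type u} [Field K] [IsAlgClosed K] {A : Type u} [CommRing A] [IsDomain A] [Algebra K A]
    [Algebra.FiniteType K A] (ψ₁ ψ₂ : A →ₐ[K] A) (h₁ : Function.Injective ψ₁) (h₂ : Function.Injective ψ₂)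
    (halg : ∀ b : A, IsAlgebraic ψ₂.range b) :
    ∃ φ₁ φ₂ : A →ₐ[K] K, ∀ f, φ₁ (ψ₁ f) = φ₂ (ψ₂ f) := by
  let Ω := AlgebraicClosure (FractionRing A)
  let R := ψ₂.range
  haveI : FaithfulSMul R A := (faithfulSMul_iff_algebraMap_injective _ _).mpr Subtype.val_injective
  haveI : Algebra.IsAlgebraic R A := ⟨halg⟩
  let e : A ≃ₐ[K] R := AlgEquiv.ofInjective ψ₂ h₂
  let j₁ : A →ₐ[K] Ω := IsScalarTower.toAlgHom K A Ω
  have hj₁ : Function.Injective j₁ := by
    change Function.Injective (algebraMap A Ω)
    rw [IsScalarTower.algebraMap_eq A (FractionRing A) Ω]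
    exact (algebraMap (FractionRing A) Ω).injective.comp (IsFractionRing.injective A _)
  let m : R →ₐ[K] Ω := (j₁.comp ψ₁).comp e.symm.toAlgHom
  obtain ⟨l, hl'⟩ := exists_lift_of_algebraic (S := A) m.toRingHom ((hj₁.comp h₁).comp e.symm.injective)
  have hl : ∀ f, l (ψ₂ f) = j₁ (ψ₁ f) := fun f => by
    refine ((congrArg l (show ψ₂ f = algebraMap R A (e f) from rfl)).trans (hl' (e f))).trans ?_
    change j₁ (ψ₁ (e.symm (e f))) = _
    rw [e.symm_apply_apply]
  let j₂ : A →ₐ[K] Ω :=
    { l with
      commutes' := fun c => by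
        change l (algebraMap K A c) = _
        rw [← ψ₂.commutes c, hl, ψ₁.commutes, j₁.commutes] }
  let C : Subalgebra K Ω := j₁.range ⊔ j₂.range
  haveI : Algebra.FiniteType K C := by
    have hfg : ∀ j : A →ₐ[K] Ω, j.range.FG := fun j => by
      have := Subalgebra.FG.map j (Algebra.FiniteType.out : (⊤ : Subalgebra K A).FG)
      rwa [Algebra.map_top] at this
    exact C.fg_iff_finiteType.1 ((hfg j₁).sup (hfg j₂))
  obtain ⟨m₀, hm₀⟩ := Ideal.exists_maximal C
  haveI := hm₀
  letI : Field (C ⧸ m₀) := Ideal.Quotient.field m₀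
  haveI : Algebra.FiniteType K (C ⧸ m₀) :=
    Algebra.FiniteType.of_surjective (Ideal.Quotient.mkₐ K m₀) Ideal.Quotient.mk_surjective
  haveI : Module.Finite K (C ⧸ m₀) := finite_of_finite_type_of_isJacobsonRing K _
  let φ : C →ₐ[K] K := (IsAlgClosed.lift : C ⧸ m₀ →ₐ[K] K).comp (Ideal.Quotient.mkₐ K m₀)
  refine ⟨φ.comp (j₁.codRestrict C fun a => SetLike.le_def.1 le_sup_left ⟨a, rfl⟩),
    φ.comp (j₂.codRestrict C fun a => SetLike.le_def.1 le_sup_right ⟨a, rfl⟩), fun f => congrArg φ (Subtype.ext ?_)⟩
  exact (hl f).symm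

namespace FData

variable {K : Type u} [Field K] [IsAlgClosed K] {q : ℕ} {A : Type u} [CommRing A] [Algebra K A] [Algebra.Smooth K A]
  (G : FData K q A) (p : ℕ) [hp : Fact p.Prime] [CharP K p] {r : ℕ} (hq : q = p ^ r) (hr : 0 < r)

include hq hr in
/-- Lang's theorem for a connected group. -/
theorem exists_lang [IsDomain A] (a : G.P) : ∃ y : G.P, y * (G.Φ y)⁻¹ = a := by
  classical
  have hθb : Function.Bijective G.θ := ⟨G.θ_injective p hq, G.θ_surjective⟩
  let θe := RingEquiv.ofBijective G.θ hθb
  let φ₀ : A → A := fun f => θe.symm f ^ q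
  have hφ : ∀ x f, G.pt x (φ₀ f) = G.pt (G.Φ x) f := fun x f => by
    rw [map_pow, ← G.hθ]
    exact congrArg _ (θe.apply_symm_apply f)
  have hD : ∀ (M : Type u) [AddCommGroup M] [Module A M] [Module K M] [IsScalarTower K A M] (D : Derivation K A M) (f : A),
      D (φ₀ f) = 0 := fun M _ _ _ _ D f => by
    rw [Derivation.leibniz_pow, hq]
    haveI : Nontrivial A := inferInstance
    haveI : CharP A p := charP_of_injective_algebraMap (algebraMap K A).injective p
    rw [← Nat.cast_smul_eq_nsmul A, CharP.cast_eq_zero_iff A p _ |>.2 (dvd_pow_self _ hr.ne'), zero_smul]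
  have hex : ∀ (a : G.P) (f : A), ∃ f', ∀ x, G.pt x f' = G.pt (x * a * (G.Φ x)⁻¹) f := fun a f => by
    obtain ⟨n, b, c, h⟩ := G.decomp f
    exact ⟨∑ i, G.R a (b i) * φ₀ (G.inv' (c i)), fun x => by simp [h, hφ]⟩
  choose L hL using hex
  let ψ : G.P → (A →ₐ[K] A) := fun a =>
    { toFun := L a
      map_one' := G.ext_pt fun x => by rw [hL, map_one, map_one]
      map_mul' := fun f g => G.ext_pt fun x => by
        rw [hL, map_mul (G.pt (x * a * (G.Φ x)⁻¹)), map_mul (G.pt x), hL, hL]
      map_zero' := G.ext_pt fun x => by rw [hL, map_zero, map_zero]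
      map_add' := fun f g => G.ext_pt fun x => by
        rw [hL, map_add (G.pt (x * a * (G.Φ x)⁻¹)), map_add (G.pt x), hL, hL]
      commutes' := fun c => G.ext_pt fun x => by rw [hL, AlgHom.commutes, AlgHom.commutes] }
  have hψ : ∀ a x f, G.pt x (ψ a f) = G.pt (x * a * (G.Φ x)⁻¹) f := fun a x f => hL a f x
  have hkill : ∀ a (M : Type u) [AddCommGroup M] [Module A M] [Module K M] [IsScalarTower K A M] (D : Derivation K A M),
      (∀ f, D (ψ a f) = 0) → D = 0 := fun a M _ _ _ _ D hz => Derivation.ext fun f => by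
    obtain ⟨n, b, c, h⟩ := G.decomp f
    choose c' hc' using fun i => G.exists_trans (c i) a⁻¹
    have hf : f = ∑ i, ψ a (b i) * φ₀ (c' i) := G.ext_pt fun x => by
      simp only [map_sum, map_mul, hψ, hφ, hc']
      rw [← h]
      congr 2
      group
    rw [hf, map_sum, Derivation.zero_apply]
    exact Finset.sum_eq_zero fun i _ => by rw [Derivation.leibniz, hz, hD M D, smul_zero, smul_zero, add_zero]
  have hdom := fun a => injective_and_isAlgebraic_of_kaehler (ψ a) (hkill a)
  obtain ⟨φ₁, φ₂, h⟩ := exists_common_value (ψ a) (ψ 1) (hdom a).1 (hdom 1).1 (hdom 1).2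
  obtain ⟨x, rfl⟩ := G.pt.surjective φ₁
  obtain ⟨y, rfl⟩ := G.pt.surjective φ₂
  have hxy : x * a * (G.Φ x)⁻¹ = y * 1 * (G.Φ y)⁻¹ := G.pt.injective <| AlgHom.ext fun f => by
    rw [← hψ, ← hψ]
    exact h f
  refine ⟨x⁻¹ * y, ?_⟩
  have ha : a = x⁻¹ * (x * a * (G.Φ x)⁻¹) * G.Φ x := by group
  rw [ha, hxy, map_mul, map_inv]
  group

end FData

end Groth.Agent.H14Count.Unip
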