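import Groth.Agent.H14Count.Unip.Additive
import Groth.Agent.H14Count.Unip.Lang
import Groth.Agent.H8Props.FieldDimFormula
import Mathlib

/-!
# A connected group of exponent a power of `p` has `q ^ d` points fixed by a Frobenius of degree `q`
-/

set_option autoImplicit false
set_option linter.style.haveILetI false
set_option linter.unusedVariables false
set_option linter.unusedSectionVars false
set_option maxHeartbeats 1000000

universe u

noncomputable section

namespace Groth.Agent.H14Count.Unip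

/-- Counting fixed points along an additive function whose kernel is a connected group up to finite index. -/
theorem card_fixed_of_additive {G : Type u} [Group G] (Φ : G →* G) {K : Type u} [Field K] (q : ℕ)
    (f : G → K) (hadd : ∀ x y, f (x * y) = f x + f y) (hfΦ : ∀ x, f (Φ x) = f x ^ q) (hsurj : Function.Surjective f)
    (hqadd : ∀ a b : K, (a + b) ^ q = a ^ q + b ^ q) (hroots : Nat.card {v : K // v ^ q = v} = q) (hq : 0 < q)
    (S : Subgroup G) (hS0 : ∀ s ∈ S, f s = 0) (hSΦ : ∀ s ∈ S, Φ s ∈ S)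
    (hcomm : ∀ x k, f k = 0 → k⁻¹ * x * k * x⁻¹ ∈ S)
    {T : Type u} [Finite T] (ι : G → T) (hι : ∀ x y, f x = 0 → f y = 0 → ι x = ι y → x⁻¹ * y ∈ S)
    (hL : ∀ a : G, ∃ y, y * (Φ y)⁻¹ = a) (hLS : ∀ a ∈ S, ∃ y ∈ S, y * (Φ y)⁻¹ = a) :
    Nat.card {x : G // Φ x = x} = q * Nat.card {x : G // x ∈ S ∧ Φ x = x} := by
  classical
  have hf1 : f 1 = 0 := by
    have h := hadd 1 1
    rw [one_mul] at h
    exact left_eq_add.mp h
  have hfinv : ∀ x, f x⁻¹ = -f x := fun x => by
    have h := hadd x x⁻¹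
    rw [mul_inv_cancel, hf1] at h
    exact eq_neg_of_add_eq_zero_right h.symm
  haveI hSn : S.Normal := ⟨fun s hs x => by
    have := S.mul_mem hs (hcomm x s (hS0 s hs))
    rwa [show s * (s⁻¹ * x * s * x⁻¹) = x * s * x⁻¹ by group] at this⟩
  let fM : G →* Multiplicative K :=
    MonoidHom.mk' (fun x => Multiplicative.ofAdd (f x)) fun x y => by rw [hadd]; rfl
  have hSker : S ≤ fM.ker := fun s hs => by
    rw [MonoidHom.mem_ker]
    exact congrArg Multiplicative.ofAdd (hS0 s hs)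
  let Q := G ⧸ S
  let fQ : Q →* Multiplicative K := QuotientGroup.lift S fM hSker
  let ΦQ : Q →* Q := QuotientGroup.map S S Φ fun s hs => hSΦ s hs
  let F : Subgroup Q := fQ.ker
  have hker : ∀ k : G, f k = 0 ↔ (QuotientGroup.mk k : Q) ∈ F := fun k => by
    change _ ↔ Multiplicative.ofAdd (f k) = Multiplicative.ofAdd 0
    exact Iff.intro (congrArg _) Multiplicative.ofAdd.injective.eq_iff.1
  have hcentral : ∀ a ∈ F, ∀ x : Q, x * a = a * x := by
    intro a ha x
    induction a using QuotientGroup.induction_on with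
    | H k =>
      induction x using QuotientGroup.induction_on with
      | H x =>
        rw [← QuotientGroup.mk_mul, ← QuotientGroup.mk_mul, eq_comm, QuotientGroup.eq]
        have := hSn.conj_mem _ (hcomm x k ((hker k).2 ha)) x⁻¹
        rwa [show x⁻¹ * (k⁻¹ * x * k * x⁻¹) * x⁻¹⁻¹ = (k * x)⁻¹ * (x * k) by group] at this
  haveI : Finite F := Finite.of_injective (fun a : F => ι (a.1.out)) fun a b h => by
    have h' : ∀ a : F, f a.1.out = 0 := fun a => (hker _).2 (by rw [QuotientGroup.out_eq']; exact a.2)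
    refine Subtype.ext ?_
    rw [← QuotientGroup.out_eq' a.1, ← QuotientGroup.out_eq' b.1, QuotientGroup.eq]
    exact hι _ _ (h' a) (h' b) h
  -- the finite group of points of the quotient with value in the fixed field
  let Rt : Subgroup (Multiplicative K) :=
    { carrier := {v | Multiplicative.toAdd v ^ q = Multiplicative.toAdd v}
      one_mem' := zero_pow hq.ne'
      mul_mem' := fun {a b} (ha : _ = _) (hb : _ = _) => by
        change (Multiplicative.toAdd a + Multiplicative.toAdd b) ^ q = _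
        rw [hqadd, ha, hb]
        rfl
      inv_mem' := fun {a} (ha : _ = _) => by
        change (-Multiplicative.toAdd a) ^ q = -Multiplicative.toAdd a
        have h := hqadd (-Multiplicative.toAdd a) (Multiplicative.toAdd a)
        rw [neg_add_cancel, zero_pow hq.ne', ha] at h
        exact eq_neg_of_add_eq_zero_left h.symm }
  let H : Subgroup Q := Rt.comap fQ
  have hFH : F ≤ H := fun a (ha : fQ a = 1) => by
    change fQ a ∈ Rt
    rw [ha]
    exact Rt.one_mem
  have hΦf : ∀ x : Q, Multiplicative.toAdd (fQ (ΦQ x)) = Multiplicative.toAdd (fQ x) ^ q := fun x => by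
    induction x using QuotientGroup.induction_on with
    | H x => exact hfΦ x
  have hHF : ∀ x : H, (x : Q)⁻¹ * ΦQ x ∈ F := fun x => by
    change fQ ((x : Q)⁻¹ * ΦQ x) = 1
    apply Multiplicative.toAdd.injective
    rw [map_mul, toAdd_mul, map_inv, toAdd_inv, hΦf]
    change -_ + _ = (0 : K)
    rw [show Multiplicative.toAdd (fQ x.1) ^ q = Multiplicative.toAdd (fQ x.1) from x.2, neg_add_cancel]
  let δ : H →* F := MonoidHom.mk' (fun x => ⟨(x : Q)⁻¹ * ΦQ x, hHF x⟩) fun x y => by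
    refine Subtype.ext ?_
    change ((x : Q) * y)⁻¹ * ΦQ (x * y) = ((x : Q)⁻¹ * ΦQ x) * ((y : Q)⁻¹ * ΦQ y)
    rw [map_mul, ← mul_assoc ((x : Q)⁻¹ * ΦQ x), ← hcentral _ (hHF x) (y : Q)⁻¹]
    group
  have hδ : Function.Surjective δ := fun a => by
    obtain ⟨k, hk⟩ := QuotientGroup.mk_surjective a.1
    obtain ⟨y, hy⟩ := hL k
    have hk0 : f k = 0 := (hker k).2 (hk ▸ a.2)
    refine ⟨⟨QuotientGroup.mk y⁻¹, ?_⟩, Subtype.ext ?_⟩
    · have h := hadd y (Φ y)⁻¹
      rw [hy, hk0, hfinv, hfΦ, ← sub_eq_add_neg, eq_comm, sub_eq_zero] at h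
      change (Multiplicative.toAdd (fQ (QuotientGroup.mk y⁻¹))) ^ q = _
      change (f y⁻¹) ^ q = f y⁻¹
      rw [← hfΦ, map_inv, hfinv, hfinv, hfΦ, ← h]
    · change (QuotientGroup.mk y⁻¹ : Q)⁻¹ * ΦQ (QuotientGroup.mk y⁻¹) = a.1
      rw [← hk, QuotientGroup.map_mk, ← QuotientGroup.mk_inv, ← QuotientGroup.mk_mul, inv_inv, map_inv, hy]
  have hfixH : ∀ x : Q, ΦQ x = x → x ∈ H := fun x hx => by
    change _ = _
    rw [← hΦf, hx]
  have h1 : Nat.card δ.ker = Nat.card {x : Q // ΦQ x = x} := Nat.card_congr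
    { toFun := fun x => ⟨x.1.1, (inv_mul_eq_one.1 (congrArg Subtype.val x.2)).symm⟩
      invFun := fun x => ⟨⟨x.1, hfixH _ x.2⟩, Subtype.ext (inv_mul_eq_one.2 x.2.symm)⟩
      left_inv := fun x => rfl
      right_inv := fun x => rfl }
  let fH : H →* Rt := (fQ.comp H.subtype).codRestrict Rt fun x => x.2
  have hfH : Function.Surjective fH := fun v => by
    obtain ⟨x, hx⟩ := hsurj (Multiplicative.toAdd v.1)
    exact ⟨⟨QuotientGroup.mk x, by change f x ^ q = f x; rw [hx]; exact v.2⟩, Subtype.ext (congrArg Multiplicative.ofAdd hx)⟩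
  have h2 : Nat.card fH.ker = Nat.card F := Nat.card_congr
    { toFun := fun x => ⟨x.1.1, congrArg Subtype.val x.2⟩
      invFun := fun x => ⟨⟨x.1, hFH x.2⟩, Subtype.ext x.2⟩
      left_inv := fun x => rfl
      right_inv := fun x => rfl }
  have hRt : Nat.card Rt = q := (Nat.card_congr (Multiplicative.toAdd.subtypeEquiv fun v => Iff.rfl)).trans hroots
  have hQfix : Nat.card {x : Q // ΦQ x = x} = q := by
    have e1 := Subgroup.card_eq_card_quotient_mul_card_subgroup δ.ker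
    rw [Nat.card_congr (QuotientGroup.quotientKerEquivOfSurjective δ hδ).toEquiv, h1] at e1
    have e2 := Subgroup.card_eq_card_quotient_mul_card_subgroup fH.ker
    rw [Nat.card_congr (QuotientGroup.quotientKerEquivOfSurjective fH hfH).toEquiv, h2, hRt, e1,
      mul_comm q] at e2
    exact Nat.eq_of_mul_eq_mul_left Nat.card_pos e2
  -- lift fixed points
  let Gf : Subgroup G := MonoidHom.eqLocus Φ (MonoidHom.id G)
  let Qf : Subgroup Q := MonoidHom.eqLocus ΦQ (MonoidHom.id Q)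
  let pr : Gf →* Qf := ((QuotientGroup.mk' S).comp Gf.subtype).codRestrict Qf fun x => by
    change ΦQ (QuotientGroup.mk x.1) = _
    rw [QuotientGroup.map_mk, show Φ x.1 = x.1 from x.2]
    rfl
  have hpr : Function.Surjective pr := fun z => by
    obtain ⟨x, hx⟩ := QuotientGroup.mk_surjective z.1
    have hs : x⁻¹ * Φ x ∈ S := by
      rw [← QuotientGroup.eq]
      have h := z.2
      change ΦQ z.1 = z.1 at h
      rw [← hx, QuotientGroup.map_mk] at h
      exact h.symm
    obtain ⟨s, hs', hsy⟩ := hLS _ hs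
    refine ⟨⟨x * s, ?_⟩, Subtype.ext ?_⟩
    · change Φ (x * s) = x * s
      rw [map_mul]
      calc Φ x * Φ s = x * (x⁻¹ * Φ x) * Φ s := by group
        _ = x * s := by rw [← hsy]; group
    · change (QuotientGroup.mk (x * s) : Q) = z.1
      rw [← hx, QuotientGroup.mk_mul_of_mem x hs']
  have h3 : Nat.card pr.ker = Nat.card {x : G // x ∈ S ∧ Φ x = x} := Nat.card_congr
    { toFun := fun x => ⟨x.1.1, (QuotientGroup.eq_one_iff _).1 (congrArg Subtype.val x.2), x.1.2⟩
      invFun := fun x => ⟨⟨x.1, x.2.2⟩, Subtype.ext ((QuotientGroup.eq_one_iff _).2 x.2.1)⟩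
      left_inv := fun x => rfl
      right_inv := fun x => rfl }
  have e3 := Subgroup.card_eq_card_quotient_mul_card_subgroup pr.ker
  rw [Nat.card_congr (QuotientGroup.quotientKerEquivOfSurjective pr hpr).toEquiv, h3] at e3
  exact e3.trans (congrArg (· * _) hQfix)

namespace FData

/-- A reduced Noetherian ring has finitely many idempotents. -/
theorem finite_idempotents (B : Type u) [CommRing B] [IsNoetherianRing B] [_root_.IsReduced B] :
    Finite {e : B // IsIdempotentElem e} := by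
  classical
  haveI := (minimalPrimes.finite_of_isNoetherianRing B).to_subtype
  refine Finite.of_injective (fun e : {e : B // IsIdempotentElem e} => {P : minimalPrimes B | e.1 ∈ P.1}) fun a b h => ?_
  refine Subtype.ext (sub_eq_zero.1 (IsReduced.eq_zero _ ?_))
  rw [nilpotent_iff_mem_prime]
  intro J hJ
  obtain ⟨P, hP, hle⟩ := Ideal.exists_minimalPrimes_le (I := (⊥ : Ideal B)) (J := J) bot_le
  haveI : P.IsPrime := hP.1.1
  have hab : a.1 ∈ P ↔ b.1 ∈ P := Set.ext_iff.1 h ⟨P, hP⟩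
  refine hle ?_
  by_cases ha : a.1 ∈ P
  · exact sub_mem ha (hab.1 ha)
  · have h1 : ∀ e : B, IsIdempotentElem e → e ∉ P → 1 - e ∈ P := fun e he hne =>
      (Ideal.IsPrime.mem_or_mem ‹_› (show e * (1 - e) ∈ P by rw [mul_sub, mul_one, he.eq, sub_self]; exact P.zero_mem)).resolve_left hne
    have := sub_mem (h1 _ b.2 (fun hb => ha (hab.2 hb))) (h1 _ a.2 ha)
    rwa [sub_sub_sub_cancel_left] at this

/-- The points of a connected group of exponent a power of `p` fixed by the Frobenius. -/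
theorem card_fixed (d : ℕ) {K : Type u} [Field K] [IsAlgClosed K] (p : ℕ) [hp : Fact p.Prime] [CharP K p] {q r : ℕ}
    (hq : q = p ^ r) (hr : 0 < r) (hK : ∀ v : K, ∃ n, 0 < n ∧ v ^ q ^ n = v)
    {A : Type u} [CommRing A] [Algebra K A] [Algebra.Smooth K A] [IsDomain A] (G : FData K q A)
    (N : ℕ) (hN : ∀ x : G.P, x ^ p ^ N = 1) (hd : ringKrullDim A = d) :
    Nat.card {x : G.P // G.Φ x = x} = q ^ d := by
  induction d using Nat.strong_induction_on generalizing A N with
  | _ d ih =>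
  classical
  haveI : CharP A p := charP_of_injective_algebraMap (algebraMap K A).injective p
  haveI := H27PGrp.isNoetherianRing_of_smooth K A
  by_cases hconst : ∀ a : A, a ∈ Submodule.span K ({1} : Set A)
  · have htriv : ∀ x y : G.P, x = y := fun x y => G.pt.injective (AlgHom.ext fun a => by
      obtain ⟨c, rfl⟩ := Submodule.mem_span_singleton.mp (hconst a)
      simp)
    haveI : Subsingleton {x : G.P // G.Φ x = x} := ⟨fun a b => Subtype.ext (htriv _ _)⟩
    haveI : Nonempty {x : G.P // G.Φ x = x} := ⟨⟨1, map_one _⟩⟩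
    have hbij : Function.Bijective (algebraMap K A) := ⟨(algebraMap K A).injective, fun a => by
      obtain ⟨c, hc⟩ := Submodule.mem_span_singleton.mp (hconst a)
      exact ⟨c, by rw [← hc, Algebra.algebraMap_eq_smul_one]⟩⟩
    rw [← ringKrullDim_eq_of_ringEquiv (RingEquiv.ofBijective _ hbij), ringKrullDim_eq_zero_of_field] at hd
    have hd0 : d = 0 := by exact_mod_cast hd.symm
    rw [hd0, pow_zero, Nat.card_unique]
  push Not at hconst
  obtain ⟨a₀, ha₀⟩ := hconst
  have hfin : ∀ S : Finset G.P, ∃ H : Subgroup G.P, Finite H ∧ ↑S ⊆ (H : Set G.P) := by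
    intro S
    choose m hm hm' using G.exists_period p hq hK
    let n := ∏ x ∈ S, m x
    let H : Subgroup G.P :=
      { carrier := {x | G.Φ^[n] x = x}
        one_mem' := iterate_map_one G.Φ n
        mul_mem' := fun {x y} (hx : _ = _) (hy : _ = _) => by
          change G.Φ^[n] (x * y) = x * y
          rw [iterate_map_mul, hx, hy]
        inv_mem' := fun {x} (hx : _ = _) => by
          change G.Φ^[n] x⁻¹ = x⁻¹
          rw [iterate_map_inv, hx] }
    refine ⟨H, (G.finite_fixed p hq hr (n := n) (Finset.prod_pos fun x _ => hm x)).to_subtype, fun x hx => ?_⟩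
    obtain ⟨t, ht⟩ : m x ∣ n := Finset.dvd_prod_of_mem _ hx
    change G.Φ^[n] x = x
    rw [ht, Function.iterate_mul]
    exact Function.iterate_fixed (hm' x) t
  obtain ⟨f₀, hf₀, hf₀0⟩ := G.exists_isAdd p hfin N hN a₀ ha₀
  obtain ⟨f₁, hf₁, hf₁θ, hf₁0⟩ := G.exists_isAdd_fixed p hq hr hf₀ hf₀0
  obtain ⟨g, ⟨hgadd, hgθ⟩, hg0, hgp⟩ := G.exists_not_pow p (fun g => G.IsAdd g ∧ G.θ g = g)
    (fun g hg => ⟨fun x y => frobenius_inj K p (by
      simp only [frobenius_def, add_pow_char, ← map_pow]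
      exact hg.1 x y), frobenius_inj A p (by simp only [frobenius_def, ← map_pow, hg.2])⟩)
    (fun g hg => hg.1.zero G) ⟨hf₁, hf₁θ⟩ hf₁0
  obtain ⟨D, hD⟩ := G.exists_derivation p hgadd hgp
  haveI := H27PGrp.smooth_quotient g D hD
  let I : Ideal A := Ideal.span {g}
  let π₁ : A →ₐ[K] A ⧸ I := Ideal.Quotient.mkₐ K I
  have hπ₁ : Function.Surjective π₁ := Ideal.Quotient.mkₐ_surjective K I
  have hg1 : π₁ g = 0 := Ideal.Quotient.eq_zero_iff_mem.2 (Ideal.mem_span_singleton_self g)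
  let K₁ : Subgroup G.P :=
    { carrier := {x | G.pt x g = 0}
      one_mem' := hgadd.zero G
      mul_mem' := fun {x y} (hx : _ = _) (hy : _ = _) => by
        change G.pt (x * y) g = 0
        rw [hgadd, hx, hy, add_zero]
      inv_mem' := fun {x} (hx : _ = _) => by
        change G.pt x⁻¹ g = 0
        rw [hgadd.inv G, hx, neg_zero] }
  have hK₁ : ∀ x, x ∈ K₁ ↔ ∀ a, π₁ a = 0 → G.pt x a = 0 := fun x => by
    refine ⟨fun hx a ha => ?_, fun h => h g hg1⟩
    obtain ⟨c, rfl⟩ := Ideal.mem_span_singleton'.1 (Ideal.Quotient.eq_zero_iff_mem.1 ha)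
    rw [map_mul, show G.pt x g = 0 from hx, mul_zero]
  let θ₁ : (A ⧸ I) →+* (A ⧸ I) := Ideal.quotientMap I G.θ (by
    rw [Ideal.span_singleton_le_iff_mem, Ideal.mem_comap, hgθ]
    exact Ideal.mem_span_singleton_self g)
  let G₁ := G.sub π₁ hπ₁ K₁ hK₁ θ₁ fun a => Ideal.quotientMap_mk
  have hpt₁ : ∀ (x : K₁) (a : A), G₁.pt x (π₁ a) = G.pt (x : G.P) a := G.sub_pt π₁ hπ₁ K₁ hK₁ θ₁ _
  obtain ⟨e, he, he0, hmin⟩ := G₁.exists_minimal_idempotent
  have heθ : G₁.θ e = e := G₁.θ_eq_self he he0 hmin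
  haveI : Algebra.Smooth K ((A ⧸ I) ⧸ Ideal.span {1 - e}) := H27PGrp.smooth_quotient_idempotent he
  let J : Ideal (A ⧸ I) := Ideal.span {1 - e}
  let π₂ : (A ⧸ I) →ₐ[K] (A ⧸ I) ⧸ J := Ideal.Quotient.mkₐ K J
  have hπ₂ : Function.Surjective π₂ := Ideal.Quotient.mkₐ_surjective K J
  let S₁ : Subgroup G₁.P := G₁.compSub he he0 hmin
  have he1 : π₂ (1 - e) = 0 := Ideal.Quotient.eq_zero_iff_mem.2 (Ideal.mem_span_singleton_self _)
  have hS₁ : ∀ x, x ∈ S₁ ↔ ∀ b, π₂ b = 0 → G₁.pt x b = 0 := fun x => by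
    refine ⟨fun hx b hb => ?_, fun h => ?_⟩
    · obtain ⟨c, rfl⟩ := Ideal.mem_span_singleton'.1 (Ideal.Quotient.eq_zero_iff_mem.1 hb)
      rw [map_mul, map_sub, map_one, show G₁.pt x e = 1 from hx, sub_self, mul_zero]
    · have := h _ he1
      rw [map_sub, map_one, sub_eq_zero] at this
      exact this.symm
  let θ₂ : ((A ⧸ I) ⧸ J) →+* ((A ⧸ I) ⧸ J) := Ideal.quotientMap J G₁.θ (by
    rw [Ideal.span_singleton_le_iff_mem, Ideal.mem_comap, map_sub, map_one, heθ]
    exact Ideal.mem_span_singleton_self _)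
  let G₂ := G₁.sub π₂ hπ₂ S₁ hS₁ θ₂ fun a => Ideal.quotientMap_mk
  haveI : Nontrivial ((A ⧸ I) ⧸ J) := (G₂.pt 1).toRingHom.domain_nontrivial
  haveI := H27PGrp.isNoetherianRing_of_smooth K (A ⧸ I)
  haveI := H27PGrp.isReduced_of_smooth K (A ⧸ I)
  haveI hdom₂ : IsDomain ((A ⧸ I) ⧸ J) := G₂.isDomain_of_idempotents fun ε hε => by
    obtain ⟨ε₀, hε₀⟩ := hπ₂ ε
    -- lift the idempotent
    have hlift : IsIdempotentElem (e * ε₀) := by
      have hmem : ε₀ * ε₀ - ε₀ ∈ J := Ideal.Quotient.eq_zero_iff_mem.1 (show π₂ (ε₀ * ε₀ - ε₀) = 0 by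
        rw [map_sub, map_mul, hε₀, hε.eq, sub_self])
      obtain ⟨c, hc⟩ := Ideal.mem_span_singleton'.1 hmem
      change e * ε₀ * (e * ε₀) = e * ε₀
      linear_combination (ε₀ * ε₀ - c) * he.eq + (-e) * hc
    have hπe : π₂ (e * ε₀) = ε := by
      have : π₂ e = 1 := by
        rw [map_sub, map_one, sub_eq_zero] at he1
        exact he1.symm
      rw [map_mul, this, hε₀, one_mul]
    rcases IsIdempotentElem.iff_eq_zero_or_one.1 (hlift.map (G₁.pt 1)) with h | h
    · refine Or.inl ?_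
      have := hmin _ hlift.one_sub (by rw [map_sub, map_one, h, sub_zero])
      rw [mul_sub, mul_one, ← mul_assoc, he.eq, sub_eq_self] at this
      rw [← hπe, this, map_zero]
    · refine Or.inr ?_
      have := hmin _ hlift h
      rw [← mul_assoc, he.eq] at this
      rw [← hπe, this]
      rw [map_sub, map_one, sub_eq_zero] at he1
      exact he1.symm
  -- the dimension drops by one
  let σ : A →ₐ[K] (A ⧸ I) ⧸ J := π₂.comp π₁
  let P : PrimeSpectrum A := ⟨RingHom.ker σ.toRingHom, RingHom.ker_isPrime _⟩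
  have hPe : ringKrullDim (A ⧸ P.asIdeal) = ringKrullDim ((A ⧸ I) ⧸ J) :=
    ringKrullDim_eq_of_ringEquiv (RingHom.quotientKerEquivOfSurjective (f := σ.toRingHom) (hπ₂.comp hπ₁))
  have hgP : g ∈ P.asIdeal := by
    change σ g = 0
    rw [AlgHom.comp_apply, hg1, map_zero]
  have hPmin : P.asIdeal ∈ I.minimalPrimes := by
    refine ⟨⟨P.2, by rw [Ideal.span_singleton_le_iff_mem]; exact hgP⟩, fun Q hQ hQP a ha => ?_⟩
    haveI := hQ.1
    obtain ⟨ea, hea⟩ := hπ₁ e
    have hprod : ea * (1 - ea) ∈ Q := hQ.2 (Ideal.Quotient.eq_zero_iff_mem.1 (show π₁ (ea * (1 - ea)) = 0 by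
      rw [map_mul, map_sub, map_one, hea, mul_sub, mul_one, he.eq, sub_self]))
    have he2 : 1 - ea ∈ Q := by
      refine (Ideal.IsPrime.mem_or_mem hQ.1 hprod).resolve_left fun h => ?_
      have h2 : π₂ (π₁ ea) = 0 := hQP h
      rw [hea] at h2
      rw [map_sub, map_one, h2, sub_zero] at he1
      exact one_ne_zero he1
    have h3 : π₁ a ∈ J := Ideal.Quotient.eq_zero_iff_mem.1 (show π₂ (π₁ a) = 0 from ha)
    obtain ⟨c, hc⟩ := Ideal.mem_span_singleton'.1 h3
    obtain ⟨ca, rfl⟩ := hπ₁ c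
    have h4 : a - ca * (1 - ea) ∈ Q := hQ.2 (Ideal.Quotient.eq_zero_iff_mem.1 (show π₁ (a - ca * (1 - ea)) = 0 by
      rw [map_sub, map_mul, map_sub, map_one, hea, hc, sub_self]))
    simpa using Q.add_mem h4 (Q.mul_mem_left ca he2)
  obtain ⟨d', hd', -⟩ := H8Props.FieldDim.exists_dim_trdeg K ((A ⧸ I) ⧸ J)
  have hdd : 1 + d' = d := by
    have hfml := H8Props.FieldDim.height_add_dim_quotient_eq_iSup (k := K) A P
    have hh1 : P.asIdeal.height = 1 := by
      refine le_antisymm (Ideal.height_le_one_of_isPrincipal_of_mem_minimalPrimes I _ hPmin) (Order.one_le_iff_pos.2 (pos_iff_ne_zero.2 fun h0 => ?_))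
      exact hg0 ((Submodule.mem_bot _).1 (Ideal.height_eq_zero_iff_eq_bot.1 h0 ▸ hgP))
    have hsup : (⨆ q : {q : PrimeSpectrum A // q ≤ P}, ringKrullDim (A ⧸ q.1.asIdeal)) = d := by
      refine le_antisymm (iSup_le fun q => ?_) ?_
      · rw [← hd]
        exact ringKrullDim_quotient_le _
      · exact le_iSup_of_le ⟨⟨⊥, Ideal.isPrime_bot⟩, bot_le (a := P.asIdeal)⟩
          ((ringKrullDim_eq_of_ringEquiv (RingEquiv.quotientBot A)).trans hd).ge
    rw [hsup, hh1, hPe, hd'] at hfml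
    exact_mod_cast hfml
  have hN₂ : ∀ x : G₂.P, x ^ p ^ N = 1 := fun x => Subtype.ext (Subtype.ext (hN x.1.1))
  have hcard₂ := ih d' (by omega) G₂ N hN₂ hd'
  -- the subgroup of points of the component
  let S : Subgroup G.P := S₁.map K₁.subtype
  have hmemS : ∀ x : G.P, x ∈ S ↔ ∃ h : x ∈ K₁, G₁.pt (⟨x, h⟩ : K₁) e = 1 := fun x => by
    constructor
    · rintro ⟨y, hy, rfl⟩
      exact ⟨y.2, hy⟩
    · rintro ⟨h, h'⟩
      exact ⟨⟨x, h⟩, h', rfl⟩
  obtain ⟨ea, hea⟩ := hπ₁ e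
  have hval : ∀ (x : G.P) (h : x ∈ K₁), G₁.pt (⟨x, h⟩ : K₁) e = G.pt x ea := fun x h => by rw [← hea]; exact hpt₁ ⟨x, h⟩ ea
  haveI : Finite {ε : A ⧸ I // IsIdempotentElem ε} := finite_idempotents _
  have hroots : Nat.card {v : K // v ^ q = v} = q := by
    have hq1 : 1 < q := hq ▸ one_lt_pow₀ hp.out.one_lt hr.ne'
    let P₀ : Polynomial K := Polynomial.X ^ q - Polynomial.X
    have hP₀ : P₀ ≠ 0 := FiniteField.X_pow_card_sub_X_ne_zero K hq1
    have hnd : P₀.roots.Nodup := Polynomial.nodup_roots (galois_poly_separable p q (hq ▸ dvd_pow_self p hr.ne'))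
    rw [Nat.card_congr (Equiv.subtypeEquivRight (q := fun v => v ∈ P₀.roots.toFinset) fun v => by
      simp [P₀, Multiset.mem_toFinset, Polynomial.mem_roots hP₀, sub_eq_zero]), Nat.card_eq_fintype_card, Fintype.card_coe,
      Multiset.toFinset_card_of_nodup hnd, ← (IsAlgClosed.splits P₀).natDegree_eq_card_roots,
      FiniteField.X_pow_card_sub_X_natDegree_eq K hq1]
  rw [card_fixed_of_additive (G := G.P) G.Φ q (fun x => G.pt x g) hgadd (fun x => by rw [← G.hθ, hgθ])
    (fun c => G.exists_point_eq hgadd D hD c) (fun a b => by simp only [hq]; exact add_pow_char_pow (R := K) (p := p) (n := r) _ _)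
    hroots (hq ▸ pow_pos hp.out.pos r) S ?_ ?_ ?_
    (T := {ε : A ⧸ I // IsIdempotentElem ε})
    (fun x => if h : x ∈ K₁ then ⟨G₁.R (⟨x, h⟩ : K₁) e, he.map _⟩ else ⟨e, he⟩) ?_ (G.exists_lang p hq hr) ?_]
  · rw [← hdd, pow_add, pow_one, ← hcard₂]
    refine congrArg (q * ·) (Nat.card_congr
      { toFun := fun x => ⟨⟨⟨x.1, ((hmemS _).1 x.2.1).1⟩, ((hmemS _).1 x.2.1).2⟩, Subtype.ext (Subtype.ext x.2.2)⟩
        invFun := fun x => ⟨x.1.1.1, (hmemS _).2 ⟨x.1.1.2, x.1.2⟩,
          congrArg (fun y => y.1.1) x.2⟩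
        left_inv := fun x => rfl
        right_inv := fun x => rfl })
  · intro s hs
    exact ((hmemS s).1 hs).1
  · intro s hs
    obtain ⟨h, h'⟩ := (hmemS s).1 hs
    exact ⟨(G₁.Φ (⟨s, h⟩ : K₁)), G₁.Φ_mem π₂ S₁ hS₁ θ₂ (fun a => Ideal.quotientMap_mk) h', rfl⟩
  · intro x k hk
    have hmem : ∀ z : G.P, k⁻¹ * z * k * z⁻¹ ∈ K₁ := fun z => by
      change G.pt _ g = 0
      rw [hgadd, hgadd, hgadd, hgadd.inv G, hgadd.inv G, hk]
      abel
    obtain ⟨n, b, c, hbc⟩ := G.decomp ea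
    choose b₁ hb₁ using fun i => G.exists_trans (b i) k
    choose b₂ hb₂ using fun i => G.exists_ltrans (b₁ i) k⁻¹
    let u : A := ∑ i, b₂ i * G.inv' (c i)
    have hu : ∀ z, G.pt z u = G₁.pt (⟨_, hmem z⟩ : K₁) e := fun z => by
      rw [hval, hbc]
      simp [u, hb₁, hb₂]
    have huid : IsIdempotentElem u := G.ext_pt fun z => by
      rw [map_mul, hu, ← map_mul, he.eq]
    refine (hmemS _).2 ⟨hmem x, ?_⟩
    rcases IsIdempotentElem.iff_eq_zero_or_one.1 huid with h | h
    · exfalso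
      have h1 := hu 1
      rw [h, map_zero] at h1
      apply zero_ne_one (α := K)
      rw [h1, ← he0]
      congr 2
      exact Subtype.ext (show k⁻¹ * 1 * k * 1⁻¹ = 1 by group)
    · rw [← hu x, h, map_one]
  · intro x y hx hy hxy
    have hx' : x ∈ K₁ := hx
    have hy' : y ∈ K₁ := hy
    rw [dif_pos hx', dif_pos hy'] at hxy
    refine (hmemS _).2 ⟨K₁.mul_mem (K₁.inv_mem hx') hy', ?_⟩
    have h := congrArg (G₁.pt (⟨x⁻¹, K₁.inv_mem hx'⟩ : K₁)) (congrArg Subtype.val hxy)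
    simp only [pt_R] at h
    rw [← he0]
    refine h.symm.trans ?_
    congr 2
    exact Subtype.ext (inv_mul_cancel x)
  · intro s hs
    obtain ⟨h, h'⟩ := (hmemS s).1 hs
    obtain ⟨y, hy⟩ := G₂.exists_lang p hq hr ⟨⟨s, h⟩, h'⟩
    exact ⟨y.1.1, (hmemS _).2 ⟨y.1.2, y.2⟩, congrArg (fun z => z.1.1) hy⟩

end FData

end Groth.Agent.H14Count.Unip
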