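import Groth.Agent.H14Count.Unip.Count
import Groth.Agent.H14Count.LangTwist
import Groth.Agent.H19Chev.UnipotentIsogeny
import Groth.Agent.H27Witt.Trans
import Groth.Agent.H8Props.FieldDimScheme

/-!
# Twisted rational points of connected unipotent groups over a finite field
-/

set_option autoImplicit false
set_option maxHeartbeats 800000
set_option linter.unusedVariables false
set_option linter.unusedSectionVars false
set_option linter.style.haveILetI false
set_option backward.isDefEq.respectTransparency false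
set_option backward.isDefEq.respectTransparency.types false

universe u

open CategoryTheory CategoryTheory.Limits MonoidalCategory CartesianMonoidalCategory MonObj GrpObj
open AlgebraicGeometry GalTw
open Groth.Agent.H26Base.GalTwist Groth.Agent.H27Witt
open scoped CategoryTheory.Obj

noncomputable section

namespace Groth.Agent.H14Count.Unip

attribute [local instance 2000] Hom.group Hom.monoid

variable {k : Type u} [Field k] [Finite k] {Kb : Type u} [Field Kb] [IsAlgClosed Kb] [Algebra k Kb]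
  [Algebra.IsAlgebraic k Kb]

/-- Every element of an algebraic closure of a finite field is fixed by a power of Frobenius. -/
theorem exists_pow_period (π : Kb ≃ₐ[k] Kb) (hπ : ∀ x : Kb, π x = x ^ Nat.card k) (v : Kb) :
    ∃ n, 0 < n ∧ v ^ Nat.card k ^ n = v := by
  haveI : FiniteDimensional k (IntermediateField.adjoin k {v}) :=
    IntermediateField.adjoin.finiteDimensional (Algebra.IsIntegral.isIntegral v)
  obtain ⟨n, hn, h⟩ := exists_level π hπ (IntermediateField.adjoin k {v})
  exact ⟨n, hn, by rw [← frob_pow_apply π hπ]; exact h n dvd_rfl v (IntermediateField.mem_adjoin_simple_self k v)⟩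

/-- A twisted Frobenius gives a Frobenius structure on the functions of the base change. -/
theorem exists_frobeniusData (π : Kb ≃ₐ[k] Kb) (hπ : ∀ x : Kb, π x = x ^ Nat.card k)
    {U B : Over (Spec (CommRingCat.of k))} [GrpObj U] [GrpObj B] [Smooth U.hom] [IsAffineHom U.hom]
    [LocallyOfFiniteType B.hom] [QuasiCompact B.hom]
    (c : AlgGrp.Action B U) (b : SGA7.Pts Kb B)
    (hmul : ∀ (b' : SGA7.Pts Kb B) (x y : SGA7.Pts Kb U),
      lift b' (x * y) ≫ c.act = (lift b' x ≫ c.act) * (lift b' y ≫ c.act)) :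
    ∃ (G : FData Kb (Nat.card k) (Fn (bcK Kb U))) (ip : G.P ≃* (T0 Kb ⟶ bcK Kb U)),
      (∀ x f, G.pt x f = Fn.ev (ip x) f) ∧ ∀ x, secPt (ip (G.Φ x)) = lift b (π • secPt (ip x)) ≫ c.act := by
  classical
  obtain ⟨p, hchar⟩ := CharP.exists k
  haveI : Fact p.Prime := ⟨CharP.char_is_prime k p⟩
  haveI : CharP Kb p := charP_of_injective_algebraMap (algebraMap k Kb).injective p
  letI := Fintype.ofFinite k
  obtain ⟨⟨r, hr⟩, -, hq⟩ := FiniteField.card k p
  have hqk : Nat.card k = p ^ r := by rw [Nat.card_eq_fintype_card]; exact hq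
  let GK := bcK Kb U
  haveI : Smooth GK.hom := MorphismProperty.pullback_snd _ _ inferInstance
  haveI : IsAffine U.left := isAffine_of_isAffineHom U.hom
  haveI : IsAffine (SGA7.pt (K := k) Kb).left := inferInstanceAs (IsAffine (Spec (CommRingCat.of Kb)))
  haveI : IsAffine GK.left := inferInstanceAs (IsAffine (pullback U.hom (SGA7.pt (K := k) Kb).hom))
  haveI : Algebra.Smooth Kb (Fn GK) := Fn.smooth GK
  -- the points
  let pe : (T0 Kb ⟶ GK) ≃ (Fn GK →ₐ[Kb] Kb) := Equiv.ofBijective Fn.ev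
    ⟨fun x y h => Fn.point_ext h, fun φ => Fn.exists_point φ⟩
  let e : (T0 Kb ⟶ GK) ≃* SGA7.Pts Kb U :=
    MulEquiv.ofBijective (secPtHom U) ⟨secPt_injective, fun x => ⟨secOfPt Kb x, secPt_secOfPt x⟩⟩
  let tw : (SGA7.Pts Kb U) →* (SGA7.Pts Kb U) :=
    MonoidHom.mk' (fun x => lift b (π • x) ≫ c.act) fun x y => by rw [smul_mul', hmul]
  let Φ : (T0 Kb ⟶ GK) →* (T0 Kb ⟶ GK) := (e.symm.toMonoidHom.comp tw).comp e.toMonoidHom
  have heΦ : ∀ s, secPt (Φ s) = lift b (π • secPt s) ≫ c.act := fun s => e.apply_symm_apply _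
  have hΦl : ∀ s, Φ s = secOfPt Kb (lift b (π • secPt s) ≫ c.act) := fun s => by rw [← heΦ, secOfPt_secPt]
  have hev : ∀ (s : T0 Kb ⟶ GK) (f : Fn GK), Fn.ev s f = gamma Kb (s.left.appTop.hom f) := fun s f => rfl
  -- the semilinear endomorphism of functions
  let Nm : GK.left ⟶ GK.left := (actK Kb c b⁻¹).left ≫ galMap Kb π U
  let θ : Fn GK →+* Fn GK := Nm.appTop.hom
  have hgam : ∀ z, gamma Kb ((specMap Kb π).appTop.hom z) = π (gamma Kb z) := fun z =>
    congrArg (fun g => g.hom z) (Scheme.ΓSpecIso_naturality (CommRingCat.ofHom (π : Kb →+* Kb)))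
  have hθ : ∀ s f, Fn.ev (Φ s) (θ f) = Fn.ev s f ^ Nat.card k := fun s f => by
    have hstep : (Φ s).left ≫ Nm = specMap Kb π ≫ s.left := by
      change (Φ s).left ≫ (actK Kb c b⁻¹).left ≫ galMap Kb π U = _
      rw [← Category.assoc, ← Over.comp_left, hΦl]
      have h1 : secOfPt Kb (lift b (π • secPt s) ≫ c.act) ≫ actK Kb c b⁻¹ = secOfPt Kb (π • secPt s) := by
        apply secPt_injective
        rw [secPt_actK, secPt_secOfPt, ← AlgGrp.Action.lift_mul_act, inv_mul_cancel, AlgGrp.Action.lift_one_act]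
      rw [h1, secOfPt_smul, secOfPt_secPt]
      simp only [Category.assoc, galMap_mul, inv_mul_cancel, galMap_one, Category.comp_id]
    rw [hev, hev, ← hπ, ← hgam]
    refine congrArg (gamma Kb) ?_
    change (Nm.appTop ≫ (Φ s).left.appTop).hom f = (s.left.appTop ≫ (specMap Kb π).appTop).hom f
    rw [← Scheme.Hom.comp_appTop, ← Scheme.Hom.comp_appTop, hstep]
    rfl
  have hNw : Nm ≫ GK.hom = GK.hom ≫ specMap Kb π := by
    change ((actK Kb c b⁻¹).left ≫ galMap Kb π U) ≫ _ = _
    erw [Category.assoc, galMap_snd, ← Category.assoc, Over.w (actK Kb c b⁻¹)]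
  have hθc : ∀ z : Kb, θ (algebraMap Kb (Fn GK) z) = algebraMap Kb (Fn GK) (z ^ Nat.card k) := fun z => by
    rw [← hπ]
    change Nm.appTop.hom (GK.hom.appTop.hom ((Scheme.ΓSpecIso (CommRingCat.of Kb)).inv.hom z)) = _
    change (GK.hom.appTop ≫ Nm.appTop).hom ((Scheme.ΓSpecIso (CommRingCat.of Kb)).inv.hom z) = _
    rw [← Scheme.Hom.comp_appTop, hNw, Scheme.Hom.comp_appTop]
    change GK.hom.appTop.hom (((Scheme.ΓSpecIso (CommRingCat.of Kb)).inv ≫ (specMap Kb π).appTop).hom z) = _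
    refine congrArg GK.hom.appTop.hom ?_
    exact (congrArg (fun g => g.hom z) (Scheme.ΓSpecIso_inv_naturality (CommRingCat.ofHom (π : Kb →+* Kb)))).symm
  have hK : ∀ v : Kb, ∃ n, 0 < n ∧ v ^ Nat.card k ^ n = v := fun v => by
    haveI : FiniteDimensional k (IntermediateField.adjoin k {v}) :=
      IntermediateField.adjoin.finiteDimensional (Algebra.IsIntegral.isIntegral v)
    obtain ⟨n, hn, h⟩ := exists_level π hπ (IntermediateField.adjoin k {v})
    exact ⟨n, hn, by rw [← frob_pow_apply π hπ]; exact h n dvd_rfl v (IntermediateField.mem_adjoin_simple_self k v)⟩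
  -- periodicity
  obtain ⟨n₀, hn₀, -, hnorm⟩ := exists_norm_level π hπ b
  have hiter : ∀ m s, secPt (Φ^[m] s) = lift (geoNorm π b m) ((π ^ m) • secPt s) ≫ c.act := fun m => by
    induction m with
    | zero => intro s; rw [Function.iterate_zero_apply, geoNorm, pow_zero, one_smul, AlgGrp.Action.lift_one_act]
    | succ m ih =>
      intro s
      rw [Function.iterate_succ_apply', heΦ, ih, geoNorm, AlgGrp.Action.lift_mul_act]
      congr 2
      rw [smul_eq_ptAut, ← Category.assoc, comp_lift, pow_succ', mul_smul]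
      rfl
  have hΦsurj : Function.Surjective Φ := fun y => by
    refine ⟨secOfPt Kb (π⁻¹ • (lift b⁻¹ (secPt y) ≫ c.act)), secPt_injective ?_⟩
    rw [heΦ, secPt_secOfPt, smul_inv_smul, ← AlgGrp.Action.lift_mul_act, mul_inv_cancel, AlgGrp.Action.lift_one_act]
  have hqiter : ∀ m s f, Fn.ev (Φ^[m] s) (θ^[m] f) = Fn.ev s f ^ Nat.card k ^ m := fun m s f => by
    induction m with
    | zero => simp
    | succ m ih => rw [Function.iterate_succ_apply', Function.iterate_succ_apply', hθ, ih, ← pow_mul, ← pow_succ]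
  let per : Subring (Fn GK) :=
    { carrier := {f | ∃ n, 0 < n ∧ θ^[n] f = f}
      one_mem' := ⟨1, one_pos, map_one θ⟩
      zero_mem' := ⟨1, one_pos, map_zero θ⟩
      add_mem' := fun {f g} ⟨n, hn, hf⟩ ⟨m, hm, hg⟩ => ⟨n * m, Nat.mul_pos hn hm, by
        rw [iterate_map_add, Function.iterate_mul, Function.iterate_fixed hf, ← Function.iterate_mul, mul_comm n,
          Function.iterate_mul, Function.iterate_fixed hg]⟩
      mul_mem' := fun {f g} ⟨n, hn, hf⟩ ⟨m, hm, hg⟩ => ⟨n * m, Nat.mul_pos hn hm, by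
        rw [iterate_map_mul, Function.iterate_mul, Function.iterate_fixed hf, ← Function.iterate_mul, mul_comm n,
          Function.iterate_mul, Function.iterate_fixed hg]⟩
      neg_mem' := fun {f} ⟨n, hn, hf⟩ => ⟨n, hn, by rw [iterate_map_neg, hf]⟩ }
  have hfst : ∀ a : Γ(U.left, ⊤), (pullback.fst U.hom (SGA7.pt (K := k) Kb).hom).appTop.hom a ∈ per := fun a => by
    refine ⟨n₀, hn₀, Fn.ext_points fun x => ?_⟩
    obtain ⟨x, rfl⟩ := (hΦsurj.iterate n₀) x
    rw [hqiter, ← frob_pow_apply π hπ]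
    have hx : secPt (Φ^[n₀] x) = ptAut k (π ^ n₀) ≫ secPt x := by
      rw [hiter, hnorm, AlgGrp.Action.lift_one_act]
      rfl
    have hxl : ((Φ^[n₀] x).left ≫ pullback.fst U.hom (SGA7.pt (K := k) Kb).hom) =
        (ptAut k (π ^ n₀)).left ≫ x.left ≫ pullback.fst U.hom (SGA7.pt (K := k) Kb).hom :=
      congrArg (fun m => m.left) hx
    rw [hev, hev]
    change (π ^ n₀) (gamma Kb (((pullback.fst U.hom (SGA7.pt (K := k) Kb).hom).appTop ≫ x.left.appTop).hom a)) =
      gamma Kb (((pullback.fst U.hom (SGA7.pt (K := k) Kb).hom).appTop ≫ (Φ^[n₀] x).left.appTop).hom a)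
    rw [← Scheme.Hom.comp_appTop, ← Scheme.Hom.comp_appTop, hxl]
    exact (evalAt_ptAut (k := k) (k' := k) _ (π ^ n₀) a).symm
  have hconst : ∀ z, GK.hom.appTop.hom z ∈ per := fun z => by
    obtain ⟨w, rfl⟩ : ∃ w, (Scheme.ΓSpecIso (CommRingCat.of Kb)).inv.hom w = z :=
      ⟨(Scheme.ΓSpecIso (CommRingCat.of Kb)).hom.hom z,
        congrArg (fun g => g.hom z) (Scheme.ΓSpecIso (CommRingCat.of Kb)).hom_inv_id⟩
    obtain ⟨n, hn, hw⟩ := hK w
    refine ⟨n, hn, ?_⟩
    have : ∀ m, θ^[m] (algebraMap Kb (Fn GK) w) = algebraMap Kb (Fn GK) (w ^ Nat.card k ^ m) := fun m => by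
      induction m with
      | zero => simp
      | succ m ih => rw [Function.iterate_succ_apply', ih, hθc, ← pow_mul, ← pow_succ]
    exact (this n).trans (by rw [hw]; rfl)
  have hper : ∀ f : Fn GK, ∃ n, 0 < n ∧ θ^[n] f = f := fun f => by
    have hpo := isPushout_appTop_of_isPullback (IsPullback.of_hasPullback U.hom (SGA7.pt (K := k) Kb).hom)
    let i : CommRingCat.of per ⟶ Γ(GK.left, ⊤) := CommRingCat.ofHom per.subtype
    let j₁ : Γ(U.left, ⊤) ⟶ CommRingCat.of per :=
      CommRingCat.ofHom ((pullback.fst U.hom (SGA7.pt (K := k) Kb).hom).appTop.hom.codRestrict per hfst)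
    let j₂ : Γ((SGA7.pt (K := k) Kb).left, ⊤) ⟶ CommRingCat.of per :=
      CommRingCat.ofHom (GK.hom.appTop.hom.codRestrict per hconst)
    have hw : U.hom.appTop ≫ j₁ = (SGA7.pt (K := k) Kb).hom.appTop ≫ j₂ := by
      refine CommRingCat.hom_ext (RingHom.ext fun z => Subtype.ext ?_)
      exact congrArg (fun g => g.hom z) hpo.w
    have hid : hpo.desc j₁ j₂ hw ≫ i = 𝟙 _ := by
      refine hpo.hom_ext ?_ ?_
      · rw [← Category.assoc, hpo.inl_desc, Category.comp_id]
        rfl
      · rw [← Category.assoc, hpo.inr_desc, Category.comp_id]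
        rfl
    have h := congrArg (fun g => g.hom f) hid
    change ((hpo.desc j₁ j₂ hw).hom f).1 = f at h
    obtain ⟨n, hn, hf⟩ := ((hpo.desc j₁ j₂ hw).hom f).2
    exact ⟨n, hn, by rw [← h]; exact hf⟩
  exact ⟨{
      P := T0 Kb ⟶ GK
      grp := Hom.group
      pt := pe
      decomp := fun a => by
        obtain ⟨n, b', c', h⟩ := Fn.exists_decomp_mul a
        refine ⟨n, b', c', fun x y => ?_⟩
        change Fn.gammaAlg (Fn.pull (x * y) a) = _
        rw [h, map_sum]
        exact Finset.sum_congr rfl fun i _ => map_mul _ _ _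
      invP := fun a => ⟨Fn.pull (𝟙 GK)⁻¹ a, fun x => by
        change Fn.ev x⁻¹ a = Fn.ev x (Fn.pull (𝟙 GK)⁻¹ a)
        rw [Fn.ev_pull, GrpObj.comp_inv, Category.comp_id]⟩
      Φ := Φ
      θ := θ
      θ_algebraMap := hθc
      hθ := hθ
      per := hper }, MulEquiv.refl _, fun _ _ => rfl, heΦ⟩

/-- A connected smooth affine group without subtorus has exponent a power of the characteristic. -/
theorem exists_exponent {Kb : Type u} [Field Kb] [IsAlgClosed Kb] (GK : Over (Spec (CommRingCat.of Kb))) [GrpObj GK]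
    [IsAffine GK.left] [ConnectedSpace GK.left] [Smooth GK.hom] (hU : Red.HasNoSubtorus Kb GK) (p : ℕ) [Fact p.Prime]
    [CharP Kb p] : ∃ N, ∀ x : T0 Kb ⟶ GK, x ^ p ^ N = 1 := by
  obtain ⟨A, _, _, _, _, hA, ⟨es⟩⟩ := H20Torus.exists_isUnipotent_model GK hU
  let em : GK ≅ CoactBr.sp Kb A := (Grp.forget _).mapIso es
  haveI : IsMonHom em.hom := es.hom.hom.isMonHom_hom
  obtain ⟨N, hN⟩ := H20Comod.exists_pow_char_pow_eq_one (S := Kb) hA p
  refine ⟨N, fun x => ?_⟩
  obtain ⟨φ, hφ⟩ := H19Chev.UnipotentIsogeny.exists_pt_eq' (H19Chev.UnipotentIsogeny.unitIso.inv ≫ x ≫ em.hom)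
  have h1 := H19Chev.UnipotentIsogeny.pt_pow (WithConv.toConv φ) (p ^ N)
  rw [hN, WithConv.ofConv_toConv, hφ, H19Chev.UnipotentIsogeny.comp_pow',
    show (x ≫ em.hom) ^ p ^ N = H19Chev.UnipotentIsogeny.postHom em.hom x ^ p ^ N from rfl, ← map_pow] at h1
  have h2 : (1 : CoactBr.sp Kb Kb ⟶ CoactBr.sp Kb A) =
      H19Chev.UnipotentIsogeny.unitIso.inv ≫ H19Chev.UnipotentIsogeny.postHom em.hom (x ^ p ^ N) := by
    rw [CoactBr.one_eq_pt]
    exact h1
  rw [← MonObj.comp_one H19Chev.UnipotentIsogeny.unitIso.inv, cancel_epi] at h2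
  exact (cancel_mono em.hom).1 (h2.symm.trans (MonObj.one_comp em.hom).symm)

/-- The points of a smooth connected unipotent group fixed by a twisted Frobenius number `q ^ d`. -/
theorem card_fixed_action (π : Kb ≃ₐ[k] Kb) (hπ : ∀ x : Kb, π x = x ^ Nat.card k)
    {U B : Over (Spec (CommRingCat.of k))} [GrpObj U] [GrpObj B] [Smooth U.hom] [IsAffineHom U.hom]
    [LocallyOfFiniteType B.hom] [QuasiCompact B.hom] [ConnectedSpace U.left]
    (hU : Red.HasNoSubtorus Kb (bcK Kb U)) (d : ℕ) (hd : topologicalKrullDim ↥U.left = (d : WithBot ℕ∞))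
    (c : AlgGrp.Action B U) (b : SGA7.Pts Kb B)
    (hmul : ∀ (b' : SGA7.Pts Kb B) (x y : SGA7.Pts Kb U),
      lift b' (x * y) ≫ c.act = (lift b' x ≫ c.act) * (lift b' y ≫ c.act)) :
    Nat.card {x : SGA7.Pts Kb U // lift b (π • x) ≫ c.act = x} = Nat.card k ^ d := by
  classical
  obtain ⟨p, hchar⟩ := CharP.exists k
  haveI : Fact p.Prime := ⟨CharP.char_is_prime k p⟩
  haveI : CharP Kb p := charP_of_injective_algebraMap (algebraMap k Kb).injective p
  letI := Fintype.ofFinite k
  obtain ⟨⟨r, hr⟩, -, hq⟩ := FiniteField.card k p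
  have hqk : Nat.card k = p ^ r := by rw [Nat.card_eq_fintype_card]; exact hq
  let GK := bcK Kb U
  haveI : Smooth GK.hom := MorphismProperty.pullback_snd _ _ inferInstance
  haveI : IsAffine U.left := isAffine_of_isAffineHom U.hom
  haveI : IsAffine (SGA7.pt (K := k) Kb).left := inferInstanceAs (IsAffine (Spec (CommRingCat.of Kb)))
  haveI : IsAffine GK.left := inferInstanceAs (IsAffine (pullback U.hom (SGA7.pt (K := k) Kb).hom))
  haveI : GeometricallyIrreducible U.hom := Groth.Agent.H19Grp.geometricallyIrreducible_of_connectedSpace_group U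
  haveI : GeometricallyIrreducible GK.hom := MorphismProperty.pullback_snd _ _ inferInstance
  haveI : IrreducibleSpace GK.left := GeometricallyIrreducible.irreducibleSpace_of_subsingleton GK.hom
  haveI : Algebra.Smooth Kb (Fn GK) := Fn.smooth GK
  haveI : IsDomain (Fn GK) := Fn.isDomain GK
  obtain ⟨G, ip, hpt, heΦ⟩ := exists_frobeniusData π hπ c b hmul
  have hK := exists_pow_period π hπ
  let e : (T0 Kb ⟶ GK) ≃* SGA7.Pts Kb U :=
    MulEquiv.ofBijective (secPtHom U) ⟨secPt_injective, fun x => ⟨secOfPt Kb x, secPt_secOfPt x⟩⟩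
  -- exponent
  obtain ⟨N, hN⟩ := exists_exponent GK hU p
  have hN' : ∀ x : G.P, x ^ p ^ N = 1 := fun x₀ => ip.injective (by rw [map_pow, map_one]; exact hN _)
  -- dimension
  have hdim : ringKrullDim (Fn GK) = d := by
    rw [← hd, ← H8Props.FieldDim.dim_baseChange (k := k) (K := Kb) U.hom (g := pullback.fst _ _) (f' := GK.hom)
      (IsPullback.of_hasPullback U.hom (SGA7.pt (K := k) Kb).hom)]
    rw [← PrimeSpectrum.topologicalKrullDim_eq_ringKrullDim]
    exact ((Scheme.Hom.homeomorph GK.left.isoSpec.hom).isHomeomorph.topologicalKrullDim_eq).symm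
  rw [← G.card_fixed d p hqk hr hK N hN' hdim]
  refine Nat.card_congr ((ip.toEquiv.trans e.toEquiv).subtypeEquiv fun s => ?_).symm
  change G.Φ s = s ↔ lift b (π • secPt (ip s)) ≫ c.act = secPt (ip s)
  rw [← heΦ]
  exact ⟨fun h => by rw [h], fun h => ip.injective (secPt_injective h)⟩

end Groth.Agent.H14Count.Unip
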